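import Cfsg.Agent.Lib.ZStar.Quat

/-! # The Z*-theorem for subgroups of a Sylow 2-subgroup -/

set_option autoImplicit false
set_option linter.unusedSectionVars false
set_option linter.unusedVariables false
set_option linter.style.haveILetI false

namespace CfsgLib.ZS

open Cfsg CfsgLib.Char
open scoped commutatorElement

universe u

section Conj

variable {G : Type u} [Group G] [Finite G]

/-- `p`-subgroups of `S N` are conjugated into `S` by `N`. -/
theorem exists_conj_of_le_sup (S : Sylow 2 G) (N : Subgroup G) [hN : N.Normal] {T : Subgroup G}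
    (hT : IsPGroup 2 T) (hle : T ≤ (S : Subgroup G) ⊔ N) :
    ∃ n ∈ N, ∀ t ∈ T, n * t * n⁻¹ ∈ (S : Subgroup G) := by
  classical
  haveI : Fact (Nat.Prime 2) := ⟨Nat.prime_two⟩
  set J : Subgroup G := (S : Subgroup G) ⊔ N with hJ
  have hSJ : (S : Subgroup G) ≤ J := le_sup_left
  have hT' : IsPGroup 2 (T.subgroupOf J) := hT.comap_subtype
  obtain ⟨Q, hQ⟩ := hT'.exists_le_sylow
  obtain ⟨j, hj⟩ := MulAction.exists_smul_eq J (S.subtype hSJ) Q
  obtain ⟨s, hs, m, hm, hsm⟩ := Subgroup.mem_sup_of_normal_right.1 j.2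
  refine ⟨(s * m * s⁻¹)⁻¹, N.inv_mem (hN.conj_mem m hm s), ?_⟩
  intro t ht
  have h1 : (⟨t, hle ht⟩ : J) ∈ (Q : Subgroup J) := hQ ht
  rw [← hj, Sylow.coe_subgroup_smul] at h1
  obtain ⟨s', hs', hse⟩ := h1
  have h2 : (j : G) * (s' : G) * (j : G)⁻¹ = t := congrArg Subtype.val hse
  have hs'S : (s' : G) ∈ (S : Subgroup G) := hs'
  have h3 : (s * m * s⁻¹)⁻¹ * t * ((s * m * s⁻¹)⁻¹)⁻¹ = s * (s' : G) * s⁻¹ := by
    rw [← h2, ← hsm]
    group
  rw [h3]
  exact Subgroup.mul_mem _ (Subgroup.mul_mem _ hs hs'S) (Subgroup.inv_mem _ hs)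

/-- Elements of a Sylow subgroup congruent modulo the odd core are equal. -/
theorem eq_of_mem_core (S : Sylow 2 G) {s s' : G} (hs : s ∈ (S : Subgroup G)) (hs' : s' ∈ (S : Subgroup G))
    (h : s * s'⁻¹ ∈ pPrimeCore 2 G) : s = s' := by
  have h1 : s * s'⁻¹ ∈ (S : Subgroup G) := Subgroup.mul_mem _ hs (Subgroup.inv_mem _ hs')
  obtain ⟨k, hk⟩ := (IsPGroup.iff_orderOf.1 S.isPGroup') ⟨_, h1⟩
  have h2 : orderOf (s * s'⁻¹) = 2 ^ k := by
    rw [← hk, Subgroup.orderOf_mk]
  have h3 := core_two_elt h2 h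
  exact mul_inv_eq_one.1 h3

/-- The preimage of the odd core of `G / ⟨c⟩`, for `c` a central involution of a group without
normal subgroups of odd order. -/
theorem comap_core_le {c : G} (hc : orderOf c = 2) [hZn : (Subgroup.zpowers c).Normal]
    (hO : pPrimeCore 2 G = ⊥) :
    (pPrimeCore 2 (G ⧸ Subgroup.zpowers c)).comap (QuotientGroup.mk' (Subgroup.zpowers c)) ≤ Subgroup.zpowers c := by
  classical
  set Z := Subgroup.zpowers c with hZ
  set π : G →* G ⧸ Z := QuotientGroup.mk' Z with hπ
  set D := pPrimeCore 2 (G ⧸ Z) with hD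
  set N₁ : Subgroup G := D.comap π with hN₁
  haveI hN₁n : N₁.Normal := Subgroup.Normal.comap (CfsgLib.PLocal.pPrimeCore_normal') π
  have hπs : Function.Surjective π := QuotientGroup.mk'_surjective Z
  have hπ1 : ∀ {g : G}, π g = 1 ↔ g ∈ Z := fun {g} => QuotientGroup.eq_one_iff g
  have hDc : (Nat.card D).Coprime 2 := CfsgLib.Solv.pPrimeCore_coprime 2
  set φ : N₁ →* D := π.subgroupComap D with hφ
  have hφs : Function.Surjective φ := π.subgroupComap_surjective_of_surjective D hπs
  set K₁ : Subgroup N₁ := φ.ker with hK₁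
  have hK₁i : K₁.index = Nat.card D := by
    rw [hK₁, Subgroup.index_ker, MonoidHom.range_eq_top_of_surjective _ hφs]
    exact Nat.card_congr Subgroup.topEquiv.toEquiv
  have hmemK : ∀ n : N₁, n ∈ K₁ ↔ (n : G) ∈ Z := by
    intro n
    rw [hK₁, MonoidHom.mem_ker]
    constructor
    · intro h1
      have h2 : π n = 1 := congrArg Subtype.val h1
      exact hπ1.1 h2
    · intro h1
      apply Subtype.ext
      exact hπ1.2 h1
  have hZN : Z ≤ N₁ := by
    intro z hz
    show π z ∈ D
    rw [hπ1.2 hz]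
    exact D.one_mem
  have hK₁c : Nat.card K₁ = 2 := by
    have h1 : K₁.map N₁.subtype = Z := by
      ext z
      constructor
      · rintro ⟨n, hn, rfl⟩
        exact (hmemK n).1 hn
      · intro hz
        exact ⟨⟨z, hZN hz⟩, (hmemK _).2 hz, rfl⟩
    rw [← Subgroup.card_map_of_injective N₁.subtype_injective, h1, hZ, Nat.card_zpowers, hc]
  have hcop : (Nat.card K₁).Coprime K₁.index := by
    rw [hK₁c, hK₁i]
    exact hDc.symm
  obtain ⟨H, hH⟩ := Subgroup.exists_right_complement'_of_coprime hcop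
  have hHi : H.index = 2 := by
    rw [hH.index_eq_card, hK₁c]
  haveI hHn : H.Normal := Subgroup.normal_of_index_eq_two hHi
  have hHc : (Nat.card H).Coprime 2 := by
    rw [← hH.symm.index_eq_card, hK₁i]
    exact hDc
  have hHle : H ≤ pPrimeCore 2 N₁ := CfsgLib.PLocal.le_pPrimeCore_of_normal H hHn hHc
  have hbot : (pPrimeCore 2 N₁).map N₁.subtype ≤ pPrimeCore 2 G :=
    CfsgLib.PLocal.le_pPrimeCore_of_normal _ (core_map_normal N₁) (core_map_card N₁)
  rw [hO, le_bot_iff, Subgroup.map_eq_bot_iff_of_injective _ N₁.subtype_injective] at hbot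
  have hHbot : H = ⊥ := by
    rw [← le_bot_iff, ← hbot]
    exact hHle
  have hK₁top : K₁ = ⊤ := by
    apply Subgroup.index_eq_one.1
    rw [hH.symm.index_eq_card, hHbot]
    simp
  intro n hn
  have h1 : (⟨n, hn⟩ : N₁) ∈ K₁ := by
    rw [hK₁top]
    trivial
  exact (hmemK _).1 h1

end Conj

section Main

/-- **The Z*-theorem for 2-subgroups**: a subgroup `Q` of a Sylow 2-subgroup `S`, all of whose elements
have no `G`-conjugates in `S` besides themselves, is central modulo the odd core. -/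
theorem zstar_subgroup : ∀ (n : ℕ) (G : Type u) [Group G] [Finite G], Nat.card G = n → ∀ (S : Sylow 2 G) (Q : Subgroup G),
    Q ≤ (S : Subgroup G) → (∀ q ∈ Q, ∀ g : G, g * q * g⁻¹ ∈ (S : Subgroup G) → g * q * g⁻¹ = q) →
    ∀ q ∈ Q, ∀ g : G, g * q * g⁻¹ * q⁻¹ ∈ pPrimeCore 2 G := by
  intro n
  induction n using Nat.strong_induction_on with
  | _ n ih =>
    intro G _ _ hn S Q hQS hiso q hq g
    classical
    haveI : Fact (Nat.Prime 2) := ⟨Nat.prime_two⟩
    haveI hNn : (pPrimeCore 2 G).Normal := CfsgLib.PLocal.pPrimeCore_normal'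
    by_cases hO : pPrimeCore 2 G = ⊥
    · -- no normal subgroups of odd order
      by_cases hQb : Q = ⊥
      · subst hQb
        rw [Subgroup.mem_bot] at hq
        subst hq
        simp
      have hQp : IsPGroup 2 Q := S.isPGroup'.to_le hQS
      have hdvd : 2 ∣ Nat.card Q := by
        obtain ⟨k, hk⟩ := IsPGroup.iff_card.1 hQp
        have hk1 : Nat.card Q ≠ 1 := by
          intro h
          apply hQb
          exact Subgroup.card_eq_one.1 h
        rw [hk]
        rcases k with _ | k
        · simp at hk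
          exact absurd hk hQb
        · exact dvd_pow_self 2 (by omega)
      obtain ⟨c₀, hc₀⟩ := exists_prime_orderOf_dvd_card' (G := Q) 2 hdvd
      set c : G := (c₀ : G) with hcdef
      have hcord : orderOf c = 2 := by
        rw [hcdef, Subgroup.orderOf_coe]
        exact hc₀
      have hcQ : c ∈ Q := c₀.2
      have hcS : c ∈ (S : Subgroup G) := hQS hcQ
      have hciso : IsIsolated c := isolated_of_sylow_form (P := S) hcord (hiso c hcQ)
      have hcz := zstar hcord hciso
      have hccen : ∀ a, c * a = a * c := by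
        intro a
        have h1 := hcz a
        rw [hO, Subgroup.mem_bot, mul_inv_eq_one, mul_inv_eq_iff_eq_mul] at h1
        exact h1.symm
      haveI hZn : (Subgroup.zpowers c).Normal := zpowers_central_normal hccen
      set Z := Subgroup.zpowers c with hZ
      set π : G →* G ⧸ Z := QuotientGroup.mk' Z with hπ
      have hπs : Function.Surjective π := QuotientGroup.mk'_surjective Z
      have hlt : Nat.card (G ⧸ Z) < n := by
        rw [← hn]
        have h1 := Subgroup.card_eq_card_quotient_mul_card_subgroup Z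
        rw [hZ, Nat.card_zpowers, hcord] at h1
        have h4 : 0 < Nat.card (G ⧸ Subgroup.zpowers c) := Nat.card_pos
        rw [hZ]
        omega
      have hZS : Z ≤ (S : Subgroup G) := by
        rw [hZ, Subgroup.zpowers_le]
        exact hcS
      have hmem : ∀ {t : G}, π t ∈ (S.mapSurjective hπs : Subgroup (G ⧸ Z)) → t ∈ (S : Subgroup G) := by
        intro t ht
        rw [Sylow.coe_mapSurjective] at ht
        obtain ⟨s, hs, hse⟩ := ht
        have h1 : s⁻¹ * t ∈ Z := by
          apply (QuotientGroup.eq_one_iff _).1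
          show π (s⁻¹ * t) = 1
          rw [map_mul, map_inv, hse, inv_mul_cancel]
        have h2 : t = s * (s⁻¹ * t) := by group
        rw [h2]
        exact Subgroup.mul_mem _ hs (hZS h1)
      have h1 := ih _ hlt (G ⧸ Z) rfl (S.mapSurjective hπs) (Q.map π) (by
          rw [Sylow.coe_mapSurjective]
          exact Subgroup.map_mono hQS) (by
          rintro _ ⟨q', hq', rfl⟩ a ha
          obtain ⟨a, rfl⟩ := hπs a
          rw [← map_inv, ← map_mul, ← map_mul] at ha ⊢
          have h2 := hiso q' hq' a (hmem ha)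
          rw [h2]) (π q) ⟨q, hq, rfl⟩ (π g)
      rw [← map_inv, ← map_inv, ← map_mul, ← map_mul, ← map_mul] at h1
      have h2 : g * q * g⁻¹ * q⁻¹ ∈ Z := comap_core_le hcord hO h1
      have h3 : g * q * g⁻¹ ∈ (S : Subgroup G) := by
        have h4 : g * q * g⁻¹ = (g * q * g⁻¹ * q⁻¹) * q := by group
        rw [h4]
        exact Subgroup.mul_mem _ (hZS h2) (hQS hq)
      rw [hiso q hq g h3, mul_inv_cancel]
      exact Subgroup.one_mem _
    · -- pass to the quotient by the core
      set N := pPrimeCore 2 G with hN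
      set π : G →* G ⧸ N := QuotientGroup.mk' N with hπ
      have hπs : Function.Surjective π := QuotientGroup.mk'_surjective N
      have hlt : Nat.card (G ⧸ N) < n := by
        rw [← hn]
        have h1 := Subgroup.card_eq_card_quotient_mul_card_subgroup N
        have h2 : Nat.card N ≠ 1 := fun h => hO (Subgroup.card_eq_one.1 h)
        have h3 : 0 < Nat.card N := Nat.card_pos
        have h4 : 0 < Nat.card (G ⧸ N) := Nat.card_pos
        rw [h1]
        have h5 : 2 ≤ Nat.card N := by omega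
        nlinarith
      have h1 := ih _ hlt (G ⧸ N) rfl (S.mapSurjective hπs) (Q.map π) (by
          rw [Sylow.coe_mapSurjective]
          exact Subgroup.map_mono hQS) (by
          rintro _ ⟨q', hq', rfl⟩ a ha
          obtain ⟨a, rfl⟩ := hπs a
          rw [← map_inv, ← map_mul, ← map_mul] at ha ⊢
          rw [Sylow.coe_mapSurjective] at ha
          obtain ⟨s, hs, hse⟩ := ha
          have ht : a * q' * a⁻¹ ∈ (S : Subgroup G) ⊔ N := by
            have h2 : s⁻¹ * (a * q' * a⁻¹) ∈ N := by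
              apply (QuotientGroup.eq_one_iff _).1
              show π (s⁻¹ * (a * q' * a⁻¹)) = 1
              rw [map_mul, map_inv, hse, inv_mul_cancel]
            have h3 : a * q' * a⁻¹ = s * (s⁻¹ * (a * q' * a⁻¹)) := by group
            rw [h3]
            exact Subgroup.mul_mem _ ((le_sup_left : (S : Subgroup G) ≤ _) hs) ((le_sup_right : N ≤ _) h2)
          have hp : IsPGroup 2 (Subgroup.zpowers (a * q' * a⁻¹)) := by
            have h3 := (IsPGroup.iff_orderOf.1 S.isPGroup') ⟨q', hQS hq'⟩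
            obtain ⟨k, hk⟩ := h3
            rw [IsPGroup.iff_card]
            refine ⟨k, ?_⟩
            rw [Nat.card_zpowers, CfsgLib.Block.orderOf_conj', ← hk, Subgroup.orderOf_mk]
          obtain ⟨m, hm, hmt⟩ := exists_conj_of_le_sup S N hp (by
            rw [Subgroup.zpowers_le]
            exact ht)
          have h4 := hmt _ (Subgroup.mem_zpowers _)
          have h5 : m * (a * q' * a⁻¹) * m⁻¹ = (m * a) * q' * (m * a)⁻¹ := by group
          rw [h5] at h4
          have h6 := hiso q' hq' _ h4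
          have h7 : a * q' * a⁻¹ = m⁻¹ * q' * m := by
            calc a * q' * a⁻¹ = m⁻¹ * ((m * a) * q' * (m * a)⁻¹) * m := by group
              _ = m⁻¹ * q' * m := by rw [h6]
          rw [h7, map_mul, map_mul, map_inv]
          have h8 : π m = 1 := (QuotientGroup.eq_one_iff _).2 hm
          rw [h8]
          simp) (π q) ⟨q, hq, rfl⟩ (π g)
      rw [CfsgLib.PLocal.pPrimeCore_quotient, Subgroup.mem_bot, ← map_inv, ← map_inv, ← map_mul, ← map_mul, ← map_mul] at h1
      exact (QuotientGroup.eq_one_iff _).1 h1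

end Main

section Fusion

variable {G : Type u} [Group G] [Finite G]

/-- The theorem in fusion language. -/
theorem fusion_center (S : Sylow 2 G) :
    (Cfsg.groupFusionSystem (S : Subgroup G)).center =
      (S : Subgroup G) ⊓ (Subgroup.center (G ⧸ pPrimeCore 2 G)).comap (QuotientGroup.mk' (pPrimeCore 2 G)) := by
  classical
  haveI hNn : (pPrimeCore 2 G).Normal := CfsgLib.PLocal.pPrimeCore_normal'
  set N := pPrimeCore 2 G with hN
  set π : G →* G ⧸ N := QuotientGroup.mk' N with hπ
  set Z : Subgroup G := (S : Subgroup G) ⊓ (Subgroup.center (G ⧸ N)).comap π with hZ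
  have hmemZ : ∀ z ∈ Z, ∀ g : G, g * z * g⁻¹ * z⁻¹ ∈ N := by
    intro z hz g
    apply (QuotientGroup.eq_one_iff _).1
    show π (g * z * g⁻¹ * z⁻¹) = 1
    have h1 : π z ∈ Subgroup.center (G ⧸ N) := hz.2
    rw [map_mul, map_mul, map_mul, map_inv, map_inv, mul_inv_eq_one, mul_inv_eq_iff_eq_mul]
    exact (Subgroup.mem_center_iff.1 h1 (π g))
  apply le_antisymm
  · apply sSup_le
    rintro Q ⟨hQS, hQ⟩
    have hiso : ∀ q ∈ Q, ∀ g : G, g * q * g⁻¹ ∈ (S : Subgroup G) → g * q * g⁻¹ = q := by
      intro q hq g hg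
      set P := Subgroup.zpowers q with hP
      have hqS : q ∈ (S : Subgroup G) := hQS hq
      have hPS : P ≤ (S : Subgroup G) := by
        rw [hP, Subgroup.zpowers_le]
        exact hqS
      set φ : P →* G := conjHom P g with hφ
      have hφv : ∀ x : P, φ x = g * (x : G) * g⁻¹ := fun x => rfl
      have hφm : φ ∈ (Cfsg.groupFusionSystem (S : Subgroup G)).Hom P := by
        refine ⟨hPS, ?_, g, hφv⟩
        rintro ⟨x, hx⟩
        obtain ⟨k, rfl⟩ := Subgroup.mem_zpowers_iff.1 hx
        rw [hφv]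
        show g * q ^ k * g⁻¹ ∈ _
        rw [← conj_zpow]
        exact Subgroup.zpow_mem _ hg k
      obtain ⟨ψ, hψ, h1, h2⟩ := hQ P φ hφm
      have h3 := h1 ⟨q, Subgroup.mem_zpowers q⟩
      have h4 := h2 ⟨q, hq⟩
      have h5 : Subgroup.inclusion (le_sup_left : P ≤ P ⊔ Q) ⟨q, Subgroup.mem_zpowers q⟩ =
          Subgroup.inclusion (le_sup_right : Q ≤ P ⊔ Q) ⟨q, hq⟩ := rfl
      rw [h5, h4] at h3
      rw [← hφv ⟨q, Subgroup.mem_zpowers q⟩]
      exact h3.symm
    have hz := zstar_subgroup _ G rfl S Q hQS hiso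
    intro q hq
    refine ⟨hQS hq, ?_⟩
    show π q ∈ Subgroup.center (G ⧸ N)
    rw [Subgroup.mem_center_iff]
    intro a
    obtain ⟨a, rfl⟩ := QuotientGroup.mk'_surjective N a
    have h1 : π (a * q * a⁻¹ * q⁻¹) = 1 := (QuotientGroup.eq_one_iff _).2 (hz q hq a)
    rw [map_mul, map_mul, map_mul, map_inv, map_inv, mul_inv_eq_one, mul_inv_eq_iff_eq_mul] at h1
    exact h1
  · apply le_sSup
    refine ⟨inf_le_left, ?_⟩
    rintro P φ ⟨hPS, hφS, g, hg⟩
    set R := P ⊔ Z with hR
    have hRS : R ≤ (S : Subgroup G) := sup_le hPS inf_le_left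
    have hRp : IsPGroup 2 R := S.isPGroup'.to_le hRS
    set T := R.map (MulAut.conj g).toMonoidHom with hT
    have hTp : IsPGroup 2 T := hRp.map _
    have hTle : T ≤ (S : Subgroup G) ⊔ N := by
      rw [hT, hR, Subgroup.map_sup, sup_le_iff]
      constructor
      · rintro _ ⟨x, hx, rfl⟩
        apply (le_sup_left : (S : Subgroup G) ≤ _)
        have h1 := hφS ⟨x, hx⟩
        rw [hg ⟨x, hx⟩] at h1
        exact h1
      · rintro _ ⟨z, hz, rfl⟩
        have h1 := hmemZ z hz g
        have h2 : (MulAut.conj g).toMonoidHom z = (g * z * g⁻¹ * z⁻¹) * z := by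
          show g * z * g⁻¹ = _
          group
        rw [h2]
        exact Subgroup.mul_mem _ ((le_sup_right : N ≤ _) h1) ((le_sup_left : (S : Subgroup G) ≤ _) hz.1)
    obtain ⟨n, hn, hnT⟩ := exists_conj_of_le_sup S N hTp hTle
    have hT1 : ∀ x ∈ R, n * (g * x * g⁻¹) * n⁻¹ ∈ (S : Subgroup G) := by
      intro x hx
      exact hnT _ ⟨x, hx, rfl⟩
    have hnN : ∀ y : G, n * y * n⁻¹ * y⁻¹ ∈ N := by
      intro y
      have h1 := hNn.conj_mem n hn y
      have h2 := hNn.conj_mem n⁻¹ (N.inv_mem hn) y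
      have h3 : n * y * n⁻¹ * y⁻¹ = n * (y * n⁻¹ * y⁻¹) := by group
      rw [h3]
      exact N.mul_mem hn (hNn.conj_mem _ (N.inv_mem hn) y)
    refine ⟨conjHom R (n * g), ⟨hRS, ?_, n * g, fun x => rfl⟩, ?_, ?_⟩
    · intro x
      have h1 := hT1 x x.2
      show (n * g) * (x : G) * (n * g)⁻¹ ∈ _
      have h2 : (n * g) * (x : G) * (n * g)⁻¹ = n * (g * (x : G) * g⁻¹) * n⁻¹ := by group
      rw [h2]
      exact h1
    · intro x
      show (n * g) * (x : G) * (n * g)⁻¹ = φ x
      rw [hg x]
      have h2 : (n * g) * (x : G) * (n * g)⁻¹ = n * (g * (x : G) * g⁻¹) * n⁻¹ := by group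
      rw [h2]
      have h3 : g * (x : G) * g⁻¹ ∈ (S : Subgroup G) := by
        rw [← hg x]
        exact hφS x
      have h4 := hT1 x ((le_sup_left : P ≤ R) x.2)
      exact eq_of_mem_core S h4 h3 (hnN _)
    · intro z
      show (n * g) * (z : G) * (n * g)⁻¹ = z
      have h2 : (n * g) * (z : G) * (n * g)⁻¹ = n * (g * (z : G) * g⁻¹) * n⁻¹ := by group
      rw [h2]
      have h4 := hT1 z ((le_sup_right : Z ≤ R) z.2)
      refine eq_of_mem_core S h4 z.2.1 ?_
      have h5 := hmemZ z z.2 (n * g)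
      rw [← h2]
      exact h5

end Fusion

end CfsgLib.ZS
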