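import Cfsg.Agent.Lib.ZStar.Quat
import Cfsg.Agent.Lib.ZStar.Elts
import Cfsg.Agent.Lib.Solv.CoprimeSylow
import Cfsg.Agent.Lib.FGS.Syl

/-! # Isolated involutions: invariant Sylow subgroups -/

set_option autoImplicit false
set_option linter.unusedSectionVars false
set_option linter.unusedVariables false

namespace CfsgLib.ZS

open Cfsg CfsgLib.Solv
open scoped Pointwise

universe u

variable {G : Type u} [Group G] [Finite G]

/-- `G = O(G) C(z)` for an isolated involution `z`. -/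
theorem exists_core_mul_comm {z : G} (hz : orderOf z = 2) (hiso : IsIsolated z) (g : G) :
    ∃ n ∈ pPrimeCore 2 G, (n⁻¹ * g) * z * (n⁻¹ * g)⁻¹ = z := by
  classical
  haveI hO : (pPrimeCore 2 G).Normal := CfsgLib.PLocal.pPrimeCore_normal' (p := 2) (G := G)
  have hcop : (Nat.card (pPrimeCore 2 G)).Coprime 2 := by
    exact CfsgLib.Solv.pPrimeCore_coprime 2
  have h2z : IsPGroup 2 (Subgroup.zpowers z) := by
    rw [IsPGroup.iff_card]
    exact ⟨1, by rw [Nat.card_zpowers, hz]; rfl⟩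
  have hgz : orderOf (g * z * g⁻¹) = 2 := by
    rw [CfsgLib.Block.orderOf_conj']; exact hz
  have h2w : IsPGroup 2 (Subgroup.zpowers (g * z * g⁻¹)) := by
    rw [IsPGroup.iff_card]
    exact ⟨1, by rw [Nat.card_zpowers, hgz]; rfl⟩
  have hcard : Nat.card (Subgroup.zpowers (g * z * g⁻¹)) = Nat.card (Subgroup.zpowers z) := by
    rw [Nat.card_zpowers, Nat.card_zpowers, hgz, hz]
  have hle : Subgroup.zpowers (g * z * g⁻¹) ≤ Subgroup.zpowers z ⊔ pPrimeCore 2 G := by
    rw [Subgroup.zpowers_le]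
    have h1 := zstar hz hiso g
    have h2 : g * z * g⁻¹ = (g * z * g⁻¹ * z⁻¹) * z := by group
    rw [h2]
    exact Subgroup.mul_mem _ (Subgroup.mem_sup_right h1) (Subgroup.mem_sup_left (Subgroup.mem_zpowers z))
  obtain ⟨n, hn, hnz⟩ := CfsgLib.FGS.exists_conj_of_coprime_normal hcop h2z h2w hcard hle
  refine ⟨n, hn, ?_⟩
  have h3 := hnz z (Subgroup.mem_zpowers z)
  have h4 : n * z * n⁻¹ = g * z * g⁻¹ := by
    have h5 : orderOf (n * z * n⁻¹) = 2 := by
      rw [CfsgLib.Block.orderOf_conj']; exact hz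
    exact eq_of_mem_zpowers_two hgz h5 h3
  have h6 : (n⁻¹ * g) * z * (n⁻¹ * g)⁻¹ = n⁻¹ * (g * z * g⁻¹) * n := by group
  rw [h6, ← h4]
  group

theorem card_sup_odd {P : Subgroup G} {p : ℕ} [Fact p.Prime] (hp : p ≠ 2) (hP : IsPGroup p P) :
    (Nat.card (Subgroup.zpowers (1 : G))).Coprime 2 ∧ (Nat.card (P ⊔ pPrimeCore 2 G : Subgroup G)).Coprime 2 := by
  haveI hO : (pPrimeCore 2 G).Normal := CfsgLib.PLocal.pPrimeCore_normal' (p := 2) (G := G)
  refine ⟨by simp, ?_⟩
  have hle : pPrimeCore 2 G ≤ P ⊔ pPrimeCore 2 G := le_sup_right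
  have h1 := Subgroup.relIndex_mul_relIndex ⊥ (pPrimeCore 2 G) (P ⊔ pPrimeCore 2 G) bot_le hle
  rw [Subgroup.relIndex_bot_left, Subgroup.relIndex_bot_left] at h1
  rw [← h1]
  apply Nat.Coprime.mul_left
  · exact CfsgLib.Solv.pPrimeCore_coprime 2
  · rw [Subgroup.relIndex_sup_right]
    have h2 : (pPrimeCore 2 G).relIndex P ∣ Nat.card P := Subgroup.relIndex_dvd_card _ _
    obtain ⟨k, hk⟩ := IsPGroup.iff_card.1 hP
    rw [hk] at h2
    apply Nat.Coprime.coprime_dvd_left h2
    apply Nat.Coprime.pow_left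
    exact (Nat.coprime_primes (Fact.out) Nat.prime_two).2 hp

/-- The subgroup `P O(G)` is normalized by an isolated involution `z`. -/
theorem mem_normalizer_sup {z : G} (hz : orderOf z = 2) (hiso : IsIsolated z) (P : Subgroup G) :
    z ∈ Subgroup.normalizer ((P ⊔ pPrimeCore 2 G : Subgroup G) : Set G) := by
  apply mem_normalizer_of_forall
  intro k hk
  have h1 := zstar' hz hiso k
  have h2 : z * k * z⁻¹ = (z * k * z⁻¹ * k⁻¹) * k := by group
  rw [h2]
  exact Subgroup.mul_mem _ (Subgroup.mem_sup_right h1) hk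

theorem zpowers_le_normalizer {z : G} {K : Subgroup G} (h : z ∈ Subgroup.normalizer (K : Set G)) :
    Subgroup.zpowers z ≤ Subgroup.normalizer (K : Set G) := by
  rw [Subgroup.zpowers_le]; exact h

theorem card_eq_relIndex_mul {H K : Subgroup G} (h : H ≤ K) : Nat.card K = Nat.card H * H.relIndex K := by
  have := Subgroup.relIndex_mul_relIndex ⊥ H K bot_le h
  rwa [Subgroup.relIndex_bot_left, Subgroup.relIndex_bot_left, eq_comm] at this

/-- A Sylow subgroup of a subgroup containing a Sylow subgroup of `G` is Sylow in `G`. -/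
theorem isSylowIn_sylow {p : ℕ} [Fact p.Prime] {P₁ K : Subgroup G} (h : IsSylowIn p P₁ K) (P₀ : Sylow p G)
    (hP₀K : (P₀ : Subgroup G) ≤ K) : ∃ P : Sylow p G, (P : Subgroup G) = P₁ := by
  obtain ⟨P, hP⟩ := h.2.1.exists_le_sylow
  refine ⟨P, ?_⟩
  symm
  apply Subgroup.eq_of_le_of_card_ge hP
  have hPc : Nat.card P = Nat.card P₀ := by
    rw [Sylow.card_eq_multiplicity, Sylow.card_eq_multiplicity]
  rw [hPc]
  apply Nat.le_of_dvd Nat.card_pos
  obtain ⟨n, hn⟩ := IsPGroup.iff_card.1 P₀.2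
  have hd : Nat.card P₀ ∣ Nat.card P₁ * P₁.relIndex K := by
    rw [← card_eq_relIndex_mul h.1]
    exact Subgroup.card_dvd_of_le hP₀K
  have hcop : (Nat.card P₀).Coprime (P₁.relIndex K) := by
    rw [hn]
    apply Nat.Coprime.pow_left
    exact ((Nat.Prime.coprime_iff_not_dvd Fact.out).2 h.2.2)
  exact hcop.dvd_of_dvd_mul_right hd

/-- An invariant `p`-subgroup of an isolated involution, `p` odd, lies in an invariant Sylow subgroup. -/
theorem exists_invariant_sylow_of_isolated {z : G} (hz : orderOf z = 2) (hiso : IsIsolated z) {p : ℕ} [Fact p.Prime]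
    (hp : p ≠ 2) (Q : Subgroup G) (hQ : IsPGroup p Q) (hzQ : z ∈ Subgroup.normalizer (Q : Set G)) :
    ∃ P : Sylow p G, Q ≤ P ∧ z ∈ Subgroup.normalizer ((P : Subgroup G) : Set G) := by
  obtain ⟨P₀, hP₀⟩ := hQ.exists_le_sylow
  set K : Subgroup G := (P₀ : Subgroup G) ⊔ pPrimeCore 2 G with hK
  have hAK := zpowers_le_normalizer (mem_normalizer_sup hz hiso (P₀ : Subgroup G))
  have hKc : (Nat.card K).Coprime 2 := (card_sup_odd hp P₀.2).2
  have hAc : (Nat.card (Subgroup.zpowers z)).Coprime (Nat.card K) := by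
    rw [Nat.card_zpowers, hz]; exact hKc.symm
  obtain ⟨P₁, hP₁, hQP₁, hP₁A⟩ := exists_invariant_sylow_containing (p := p) (Subgroup.zpowers z) K hAK hAc
    (Or.inl (by infer_instance)) Q (hP₀.trans le_sup_left) hQ (zpowers_le_normalizer hzQ)
  obtain ⟨P, hPe⟩ := isSylowIn_sylow hP₁ P₀ le_sup_left
  refine ⟨P, hPe ▸ hQP₁, ?_⟩
  rw [hPe]
  exact hP₁A (Subgroup.mem_zpowers z)

theorem isSylowIn_of_le (p : ℕ) [Fact p.Prime] (P : Sylow p G) {K : Subgroup G} (h : (P : Subgroup G) ≤ K) :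
    IsSylowIn p (P : Subgroup G) K := by
  refine ⟨h, P.2, fun hd => P.not_dvd_index ?_⟩
  rw [← Subgroup.relIndex_mul_index h]
  exact Dvd.dvd.mul_right hd _

/-- Invariant Sylow subgroups of an isolated involution, `p` odd, are conjugate under the centralizer. -/
theorem exists_conj_invariant_sylow {z : G} (hz : orderOf z = 2) (hiso : IsIsolated z) {p : ℕ} [Fact p.Prime]
    (hp : p ≠ 2) (P Q : Sylow p G) (hP : z ∈ Subgroup.normalizer ((P : Subgroup G) : Set G))
    (hQ : z ∈ Subgroup.normalizer ((Q : Subgroup G) : Set G)) :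
    ∃ c : G, c * z * c⁻¹ = z ∧ MulAut.conj c • (P : Subgroup G) = Q := by
  obtain ⟨g, hg⟩ := MulAction.exists_smul_eq G P Q
  obtain ⟨n, hn, hc⟩ := exists_core_mul_comm hz hiso g
  set c : G := n⁻¹ * g with hcdef
  have hgc : g = n * c := by rw [hcdef]; group
  -- the conjugate `P' = c • P` is `z`-invariant
  set P' : Sylow p G := c • P with hP'
  have hP'c : (P' : Subgroup G) = MulAut.conj c • (P : Subgroup G) := Sylow.coe_subgroup_smul
  have hP'z : z ∈ Subgroup.normalizer ((P' : Subgroup G) : Set G) := by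
    rw [hP'c, mem_normalizer_conj_iff]
    have h0 : c * z = z * c := by
      calc c * z = (c * z * c⁻¹) * c := by group
        _ = z * c := by rw [hc]
    have h1 : c⁻¹ * z * c = z := by
      rw [mul_assoc, ← h0]
      group
    rw [h1]
    exact hP
  have hQ' : (Q : Subgroup G) = MulAut.conj n • (P' : Subgroup G) := by
    rw [hP'c, ← hg, Sylow.coe_subgroup_smul, hgc, map_mul, mul_smul]
  set K : Subgroup G := (P' : Subgroup G) ⊔ pPrimeCore 2 G with hK
  haveI hO : (pPrimeCore 2 G).Normal := CfsgLib.PLocal.pPrimeCore_normal' (p := 2) (G := G)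
  have hQK : (Q : Subgroup G) ≤ K := by
    rw [hQ']
    intro q hq
    rw [mem_conj_smul] at hq
    have h1 : q = (n * (n⁻¹ * q * n) * n⁻¹ * (n⁻¹ * q * n)⁻¹) * (n⁻¹ * q * n) := by group
    rw [h1]
    refine Subgroup.mul_mem _ (Subgroup.mem_sup_right ?_) (Subgroup.mem_sup_left hq)
    have h2 : n * (n⁻¹ * q * n) * n⁻¹ * (n⁻¹ * q * n)⁻¹ = n * ((n⁻¹ * q * n) * n⁻¹ * (n⁻¹ * q * n)⁻¹) := by group
    rw [h2]
    exact Subgroup.mul_mem _ hn (hO.conj_mem _ (Subgroup.inv_mem _ hn) _)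
  have hAK := zpowers_le_normalizer (mem_normalizer_sup hz hiso (P' : Subgroup G))
  have hKc : (Nat.card K).Coprime 2 := (card_sup_odd hp P'.2).2
  have hAc : (Nat.card (Subgroup.zpowers z)).Coprime (Nat.card K) := by
    rw [Nat.card_zpowers, hz]; exact hKc.symm
  obtain ⟨d, hd, hdc⟩ := invariant_sylow_conj (p := p) (Subgroup.zpowers z) K hAK hAc (Or.inl (by infer_instance))
    (isSylowIn_of_le p P' le_sup_left) (isSylowIn_of_le p Q hQK)
    (zpowers_le_normalizer hP'z) (zpowers_le_normalizer hQ)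
  refine ⟨d * c, ?_, ?_⟩
  · have h1 : d * z = z * d := by
      have := Subgroup.mem_centralizer_iff.1 (Subgroup.mem_inf.1 hd).2 z (Subgroup.mem_zpowers z)
      exact this.symm
    have h2 : (d * c) * z * (d * c)⁻¹ = d * (c * z * c⁻¹) * d⁻¹ := by group
    rw [h2, hc, h1]
    group
  · rw [map_mul, mul_smul, ← hP'c]
    exact hdc

theorem mem_conj_of_commute_le {z c : G} (h : c * z * c⁻¹ = z) : c ∈ Subgroup.centralizer ({z} : Set G) := by
  rw [Subgroup.mem_centralizer_singleton_iff]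
  calc c * z = (c * z * c⁻¹) * c := by group
    _ = z * c := by rw [h]

/-- The first part of S1253: `P ∩ C(z)` is a Sylow subgroup of `C(z)`. -/
theorem inf_centralizer_sylow {z : G} (hz : orderOf z = 2) (hiso : IsIsolated z) {p : ℕ} [Fact p.Prime]
    (hp : p ≠ 2) (P : Sylow p G) (hP : z ∈ Subgroup.normalizer ((P : Subgroup G) : Set G)) :
    ¬ p ∣ ((P : Subgroup G) ⊓ Subgroup.centralizer ({z} : Set G)).relIndex (Subgroup.centralizer ({z} : Set G)) := by
  set C := Subgroup.centralizer ({z} : Set G) with hC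
  have hT : IsPGroup p (((P : Subgroup G) ⊓ C).subgroupOf C) := by
    exact (P.2.to_le inf_le_left).of_equiv (Subgroup.subgroupOfEquivOfLe (inf_le_right : (P : Subgroup G) ⊓ C ≤ C)).symm
  obtain ⟨R, hR⟩ := hT.exists_le_sylow
  have hRs := isSylowIn_of_sylow R
  set R' : Subgroup G := (R : Subgroup C).map C.subtype with hR'
  have hRC : R' ≤ C := hRs.1
  have hzR : z ∈ Subgroup.normalizer (R' : Set G) := by
    apply mem_normalizer_of_forall
    intro k hk
    have h1 : z * k = k * z := (Subgroup.mem_centralizer_singleton_iff.1 (hRC hk)).symm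
    rw [h1]
    simpa using hk
  obtain ⟨P₁, hP₁, hP₁z⟩ := exists_invariant_sylow_of_isolated hz hiso hp R' hRs.2.1 hzR
  obtain ⟨c, hc, hcP⟩ := exists_conj_invariant_sylow hz hiso hp P₁ P hP₁z hP
  have hleR : (P : Subgroup G) ⊓ C ≤ R' := by
    intro x hx
    refine ⟨⟨x, hx.2⟩, hR ?_, rfl⟩
    exact Subgroup.mem_subgroupOf.2 hx
  have hmap : R'.map (MulAut.conj c).toMonoidHom ≤ (P : Subgroup G) ⊓ C := by
    rintro _ ⟨r, hr, rfl⟩
    refine Subgroup.mem_inf.2 ⟨?_, ?_⟩
    · rw [← hcP, mem_conj_smul]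
      have : c⁻¹ * ((MulAut.conj c).toMonoidHom r) * c = r := by
        change c⁻¹ * (c * r * c⁻¹) * c = r
        group
      rw [this]
      exact hP₁ hr
    · have h1 := mem_conj_of_commute_le hc
      have : (MulAut.conj c).toMonoidHom r = c * r * c⁻¹ := rfl
      rw [this]
      exact Subgroup.mul_mem _ (Subgroup.mul_mem _ h1 (hRC hr)) (Subgroup.inv_mem _ h1)
  have hcard : Nat.card R' ≤ Nat.card ((P : Subgroup G) ⊓ C : Subgroup G) := by
    rw [← Nat.card_congr (Subgroup.equivMapOfInjective R' (MulAut.conj c).toMonoidHom (MulAut.conj c).injective).symm.toEquiv]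
    exact Nat.card_mono (Set.toFinite _) hmap
  have heq : (P : Subgroup G) ⊓ C = R' := Subgroup.eq_of_le_of_card_ge hleR hcard
  rw [heq]
  exact hRs.2.2

/-- The second part of S1253: the index of the centralizer counts the inverted elements. -/
theorem relIndex_eq_card_inverted {z : G} (hz : z * z = 1) (P : Subgroup G)
    (hP : z ∈ Subgroup.normalizer (P : Set G)) (hodd : Odd (Nat.card P)) :
    (P ⊓ Subgroup.centralizer ({z} : Set G)).relIndex P = Nat.card {x : G // x ∈ P ∧ z * x * z⁻¹ = x⁻¹} := by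
  classical
  have hzi : z⁻¹ = z := inv_eq_of_mul_eq_one_left hz
  have hσ : ∀ x ∈ P, z * x * z⁻¹ ∈ P := fun x hx => (Subgroup.mem_normalizer_iff.1 hP x).1 hx
  have hσσ : ∀ x : G, z * (z * x * z⁻¹) * z⁻¹ = x := by
    intro x
    rw [hzi]
    calc z * (z * x * z) * z = (z * z) * x * (z * z) := by group
      _ = x := by rw [hz]; group
  set H : Subgroup P := (P ⊓ Subgroup.centralizer ({z} : Set G)).subgroupOf P with hH
  have hmemH : ∀ x : P, x ∈ H ↔ z * (x : G) * z⁻¹ = x := by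
    intro x
    rw [hH, Subgroup.mem_subgroupOf]
    constructor
    · intro h
      have h1 := Subgroup.mem_centralizer_singleton_iff.1 (Subgroup.mem_inf.1 h).2
      rw [← h1]
      group
    · intro h
      refine Subgroup.mem_inf.2 ⟨x.2, Subgroup.mem_centralizer_singleton_iff.2 ?_⟩
      nth_rw 1 [← h]
      group
  -- the map `x ↦ x σ(x)⁻¹`
  let f : P → {x : G // x ∈ P ∧ z * x * z⁻¹ = x⁻¹} := fun x =>
    ⟨(x : G) * (z * (x : G) * z⁻¹)⁻¹, P.mul_mem x.2 (P.inv_mem (hσ _ x.2)), by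
      have h1 := hσσ (x : G)
      calc z * ((x : G) * (z * (x : G) * z⁻¹)⁻¹) * z⁻¹
          = (z * (x : G) * z⁻¹) * (z * (z * (x : G) * z⁻¹) * z⁻¹)⁻¹ := by group
        _ = (z * (x : G) * z⁻¹) * (x : G)⁻¹ := by rw [h1]
        _ = ((x : G) * (z * (x : G) * z⁻¹)⁻¹)⁻¹ := by group⟩
  have hf : ∀ a b : P, f a = f b ↔ a⁻¹ * b ∈ H := by
    intro a b
    rw [hmemH, Subtype.ext_iff]
    change (a : G) * (z * (a : G) * z⁻¹)⁻¹ = (b : G) * (z * (b : G) * z⁻¹)⁻¹ ↔
      z * (((a⁻¹ * b : P)) : G) * z⁻¹ = ((a⁻¹ * b : P) : G)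
    have e : (((a⁻¹ * b : P)) : G) = (a : G)⁻¹ * (b : G) := by simp
    rw [e]
    have e2 : z * ((a : G)⁻¹ * (b : G)) * z⁻¹ = (z * (a : G) * z⁻¹)⁻¹ * (z * (b : G) * z⁻¹) := by group
    rw [e2]
    generalize z * (a : G) * z⁻¹ = A
    generalize z * (b : G) * z⁻¹ = B
    generalize (a : G) = a'
    generalize (b : G) = b'
    constructor
    · intro h
      have : b' = a' * A⁻¹ * B := by rw [h]; group
      rw [this]; group
    · intro h
      have : B = A * (a'⁻¹ * b') := by rw [← h]; group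
      rw [this]; group
  let F : P ⧸ H → {x : G // x ∈ P ∧ z * x * z⁻¹ = x⁻¹} :=
    Quotient.lift f (by
      intro a b hab
      exact (hf a b).2 (QuotientGroup.leftRel_apply.1 hab))
  have hFinj : Function.Injective F := by
    intro a b
    induction a using QuotientGroup.induction_on with | _ a => ?_
    induction b using QuotientGroup.induction_on with | _ b => ?_
    intro h
    exact QuotientGroup.eq.2 ((hf a b).1 h)
  have hFsurj : Function.Surjective F := by
    rintro ⟨w, hw, hwz⟩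
    obtain ⟨m, hm⟩ := hodd
    -- the square root of `w`
    have hw1 : w ^ (Nat.card P) = 1 := by
      have h0 : ((⟨w, hw⟩ : P) ^ Nat.card P : P) = 1 := pow_card_eq_one'
      calc w ^ Nat.card P = (((⟨w, hw⟩ : P) ^ Nat.card P : P) : G) := rfl
        _ = 1 := by rw [h0]; rfl
    set v : G := w ^ (m + 1) with hv
    have hvP : v ∈ P := P.pow_mem hw _
    have hvv : v * v = w := by
      rw [hv, ← pow_add]
      have : m + 1 + (m + 1) = Nat.card P + 1 := by omega
      rw [this, pow_succ, hw1, one_mul]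
    have hvz : z * v * z⁻¹ = v⁻¹ := by
      rw [hv, ← conj_pow, hwz, inv_pow]
    refine ⟨QuotientGroup.mk ⟨v, hvP⟩, ?_⟩
    apply Subtype.ext
    change v * (z * v * z⁻¹)⁻¹ = w
    rw [hvz, inv_inv, hvv]
  exact Nat.card_congr (Equiv.ofBijective F ⟨hFinj, hFsurj⟩)

end CfsgLib.ZS
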