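import Cfsg.Agent.Lib.ZStar.Main
import Cfsg.Agent.Lib.H3.QuatCent

/-! # Consequences of the Z*-theorem for generalized quaternion Sylow subgroups -/

set_option autoImplicit false
set_option linter.unusedSectionVars false
set_option linter.unusedVariables false
set_option linter.style.haveILetI false

namespace CfsgLib.ZS

open Cfsg CfsgLib.Char
open scoped commutatorElement

universe u

section QFacts2

open QuaternionGroup

variable {m : ℕ} [hm : NeZero m]

theorem qi_sq : (a (m : ZMod (2 * m)) : QuaternionGroup m) ^ 2 = 1 := by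
  rw [pow_two, a_mul_a, ← a_zero]
  congr 1
  have : (m : ZMod (2 * m)) + m = ((2 * m : ℕ) : ZMod (2 * m)) := by
    push_cast
    ring
  rw [this, ZMod.natCast_self]

theorem qi_ne : (a (m : ZMod (2 * m)) : QuaternionGroup m) ≠ 1 := by
  intro h
  rw [← a_zero] at h
  have h1 : (m : ZMod (2 * m)) = 0 := a.inj h
  rw [ZMod.natCast_eq_zero_iff] at h1
  have h2 := Nat.le_of_dvd (Nat.pos_of_ne_zero (NeZero.ne m)) h1
  have h3 := Nat.pos_of_ne_zero (NeZero.ne m)
  omega

theorem qi_order : orderOf (a (m : ZMod (2 * m)) : QuaternionGroup m) = 2 :=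
  orderOf_eq_prime qi_sq qi_ne

theorem qi_unique {t : QuaternionGroup m} (h : orderOf t = 2) : t = a (m : ZMod (2 * m)) := by
  rcases t with i | i
  · have h1 : (a i : QuaternionGroup m) ^ 2 = 1 := by
      rw [← h]
      exact pow_orderOf_eq_one _
    rw [pow_two, a_mul_a, ← a_zero] at h1
    have h2 : i + i = 0 := a.inj h1
    rcases CfsgLib.QuatCent.two_eq_zero_cases h2 with h3 | h3
    · rw [h3, a_zero] at h
      simp at h
    · rw [h3]
  · rw [orderOf_xa] at h
    omega

theorem qi_central (h2 : 2 ≤ m) {t : QuaternionGroup m} (h : ∀ y, t * y = y * t) :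
    t = 1 ∨ t = a (m : ZMod (2 * m)) := by
  rcases t with i | i
  · have h1 := h (xa 0)
    rw [a_mul_xa, xa_mul_a] at h1
    have h3 : (0 : ZMod (2 * m)) - i = 0 + i := xa.inj h1
    have h4 : i + i = 0 := by
      have : i + i = (0 + i) - (0 - i) := by ring
      rw [this, ← h3, sub_self]
    rcases CfsgLib.QuatCent.two_eq_zero_cases h4 with h5 | h5
    · left
      rw [h5, a_zero]
    · right
      rw [h5]
  · exfalso
    have h1 := h (a 1)
    rw [a_mul_xa, xa_mul_a] at h1
    have h3 : i + 1 = i - 1 := xa.inj h1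
    have h4 : (2 : ZMod (2 * m)) = 0 := by
      have : (2 : ZMod (2 * m)) = (i + 1) - (i - 1) := by ring
      rw [this, h3, sub_self]
    have h5 : ((2 : ℕ) : ZMod (2 * m)) = 0 := by
      exact_mod_cast h4
    rw [ZMod.natCast_eq_zero_iff] at h5
    have h6 := Nat.le_of_dvd (by norm_num) h5
    omega

theorem qi_comm (P Q : QuaternionGroup m) : ∃ w : ZMod (2 * m), P * Q * P⁻¹ * Q⁻¹ = a (w + w) := by
  rcases P with i | i <;> rcases Q with j | j
  · refine ⟨0, ?_⟩
    show a i * a j * a (-i) * a (-j) = a (0 + 0)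
    rw [a_mul_a, a_mul_a, a_mul_a]
    congr 1
    ring
  · refine ⟨i, ?_⟩
    show a i * xa j * a (-i) * xa ((m : ZMod (2 * m)) + j) = a (i + i)
    rw [a_mul_xa, xa_mul_a, xa_mul_xa]
    congr 1
    have h1 : (m : ZMod (2 * m)) + m = 0 := by
      have : (m : ZMod (2 * m)) + m = ((2 * m : ℕ) : ZMod (2 * m)) := by
        push_cast
        ring
      rw [this, ZMod.natCast_self]
    linear_combination h1
  · refine ⟨-j, ?_⟩
    show xa i * a j * xa ((m : ZMod (2 * m)) + i) * a (-j) = a (-j + -j)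
    rw [xa_mul_a, xa_mul_xa, a_mul_a]
    congr 1
    have h1 : (m : ZMod (2 * m)) + m = 0 := by
      have : (m : ZMod (2 * m)) + m = ((2 * m : ℕ) : ZMod (2 * m)) := by
        push_cast
        ring
      rw [this, ZMod.natCast_self]
    linear_combination h1
  · refine ⟨j - i, ?_⟩
    show xa i * xa j * xa ((m : ZMod (2 * m)) + i) * xa ((m : ZMod (2 * m)) + j) = a (j - i + (j - i))
    rw [xa_mul_xa, a_mul_xa, xa_mul_xa]
    congr 1
    have h1 : (m : ZMod (2 * m)) + m = 0 := by
      have : (m : ZMod (2 * m)) + m = ((2 * m : ℕ) : ZMod (2 * m)) := by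
        push_cast
        ring
      rw [this, ZMod.natCast_self]
    linear_combination h1

theorem qi_a_two (w : ZMod (2 * m)) : (a (w + w) : QuaternionGroup m) = ((a 1) ^ 2) ^ w.val := by
  haveI : NeZero (2 * m) := ⟨by have := NeZero.ne m; omega⟩
  rw [← pow_mul, a_one_pow]
  congr 1
  push_cast
  rw [ZMod.natCast_zmod_val]
  ring

end QFacts2

section QSylow

open QuaternionGroup

variable {G : Type u} [Group G] [Finite G] (S : Sylow 2 G) {m : ℕ} [hm : NeZero m]
  (e : (S : Subgroup G) ≃* QuaternionGroup m)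

/-- The involution of a generalized quaternion Sylow subgroup. -/
noncomputable def qx : G := ((e.symm (a (m : ZMod (2 * m))) : (S : Subgroup G)) : G)

theorem qx_mem : qx S e ∈ (S : Subgroup G) := (e.symm (a (m : ZMod (2 * m)))).2

theorem qx_order : orderOf (qx S e) = 2 := by
  rw [qx, Subgroup.orderOf_coe, MulEquiv.orderOf_eq, qi_order]

theorem qx_unique {t : G} (ht : t ∈ (S : Subgroup G)) (h : orderOf t = 2) : t = qx S e := by
  have h1 : orderOf (e ⟨t, ht⟩) = 2 := by
    rw [MulEquiv.orderOf_eq, Subgroup.orderOf_mk]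
    exact h
  have h2 := qi_unique h1
  have h3 : (⟨t, ht⟩ : (S : Subgroup G)) = e.symm (a (m : ZMod (2 * m))) := by
    rw [← h2, MulEquiv.symm_apply_apply]
  exact congrArg Subtype.val h3

theorem qx_isolated : IsIsolated (qx S e) := by
  apply isolated_of_sylow_form (P := S) (qx_order S e)
  intro g hg
  apply qx_unique S e hg
  rw [CfsgLib.Block.orderOf_conj']
  exact qx_order S e

theorem qx_zstar : InZStar 2 (qx S e) := zstar (qx_order S e) (qx_isolated S e)

theorem qx_conj {t : G} (h : orderOf t = 2) : ∃ g : G, t = g * qx S e * g⁻¹ := by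
  obtain ⟨Q, hQ⟩ := exists_sylow_mem' (g := t) (k := 1) (by rw [h]; rfl)
  obtain ⟨c, rfl⟩ := MulAction.exists_smul_eq G S Q
  rw [Sylow.coe_subgroup_smul] at hQ
  obtain ⟨t₀, ht₀, hte⟩ := hQ
  have hte' : c * t₀ * c⁻¹ = t := hte
  have h1 : orderOf t₀ = 2 := by
    rw [← h, ← hte', CfsgLib.Block.orderOf_conj']
  rw [qx_unique S e ht₀ h1] at hte'
  exact ⟨c, hte'.symm⟩

/-- All involutions lie in the coset `x O(G)`. -/
theorem qx_coset {t : G} (h : orderOf t = 2) : t * (qx S e)⁻¹ ∈ pPrimeCore 2 G := by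
  obtain ⟨g, rfl⟩ := qx_conj S e h
  exact qx_zstar S e g

/-- The image of a 2-element lying in the core is trivial. -/
theorem core_two_elt {t : G} {n : ℕ} (h : orderOf t = 2 ^ n) (ht : t ∈ pPrimeCore 2 G) : t = 1 := by
  have h1 : orderOf t ∣ Nat.card (pPrimeCore 2 G) := by
    have := orderOf_dvd_natCard (⟨t, ht⟩ : pPrimeCore 2 G)
    rwa [Subgroup.orderOf_mk] at this
  have h2 : (Nat.card (pPrimeCore 2 G)).Coprime 2 := CfsgLib.Solv.pPrimeCore_coprime 2
  have h3 : Nat.Coprime (orderOf t) 2 := Nat.Coprime.coprime_dvd_left h1 h2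
  rw [h] at h3
  rw [← orderOf_eq_one_iff, h]
  rcases n with _ | n
  · rfl
  · exfalso
    have h4 : 2 ∣ 2 ^ (n + 1) := dvd_pow_self 2 (by omega)
    have := Nat.Coprime.eq_one_of_dvd h3.symm h4
    omega

theorem odd_core : Odd (Nat.card (pPrimeCore 2 G)) := by
  have h := CfsgLib.Solv.pPrimeCore_coprime (G := G) 2
  rcases Nat.even_or_odd (Nat.card (pPrimeCore 2 G)) with h1 | h1
  · have := Nat.Coprime.eq_one_of_dvd h.symm h1.two_dvd
    omega
  · exact h1

omit [Finite G] in
theorem odd_of_not_two {n : ℕ} (h : ¬ 2 ∣ n) : Odd n := by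
  rcases Nat.even_or_odd n with h1 | h1
  · exact absurd h1.two_dvd h
  · exact h1

/-- A central element is a 2-element if the group has no normal subgroup of odd order. -/
theorem center_two_elt (hO : ∀ N : Subgroup G, N.Normal → Odd (Nat.card N) → N = ⊥) {z : G}
    (hz : z ∈ Subgroup.center G) : ∃ r : ℕ, orderOf z = 2 ^ r := by
  obtain ⟨s, c, hc, ho⟩ := Nat.exists_eq_pow_mul_and_not_dvd (orderOf_pos z).ne' 2 (by norm_num)
  have hcpos : 0 < c := by
    rcases Nat.eq_zero_or_pos c with h0 | h0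
    · rw [h0] at hc
      exact absurd (dvd_zero 2) hc
    · exact h0
  have hord : orderOf (z ^ (2 ^ s)) = c := by
    rw [orderOf_pow_of_dvd (by positivity) (by rw [ho]; exact dvd_mul_right _ _), ho]
    exact Nat.mul_div_cancel_left _ (by positivity)
  have hz2 : z ^ (2 ^ s) ∈ Subgroup.center G := Subgroup.pow_mem _ hz _
  have hN : (Subgroup.zpowers (z ^ (2 ^ s))).Normal :=
    zpowers_central_normal (fun g => ((Subgroup.mem_center_iff.1 hz2 g).symm))
  have hodd : Odd (Nat.card (Subgroup.zpowers (z ^ (2 ^ s)))) := by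
    rw [Nat.card_zpowers, hord]
    exact odd_of_not_two hc
  have h1 := hO _ hN hodd
  have h2 : z ^ (2 ^ s) = 1 := by
    have h3 : z ^ (2 ^ s) ∈ Subgroup.zpowers (z ^ (2 ^ s)) := Subgroup.mem_zpowers _
    rw [h1, Subgroup.mem_bot] at h3
    exact h3
  have h3 : orderOf z ∣ 2 ^ s := orderOf_dvd_of_pow_eq_one h2
  obtain ⟨r, -, hr⟩ := (Nat.dvd_prime_pow Nat.prime_two).1 h3
  exact ⟨r, hr⟩

include S e in
/-- **Brauer–Suzuki.** -/
theorem center_card (h2 : 2 ≤ m) (hO : ∀ N : Subgroup G, N.Normal → Odd (Nat.card N) → N = ⊥) :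
    Nat.card (Subgroup.center G) = 2 := by
  classical
  have hcore : pPrimeCore 2 G = ⊥ := hO _ CfsgLib.PLocal.pPrimeCore_normal' odd_core
  set x := qx S e with hx
  have hxord : orderOf x = 2 := qx_order S e
  have hxcen : x ∈ Subgroup.center G := by
    rw [Subgroup.mem_center_iff]
    intro g
    have h1 := qx_zstar S e g
    rw [hcore, Subgroup.mem_bot, mul_inv_eq_one] at h1
    rw [mul_inv_eq_iff_eq_mul] at h1
    exact h1
  have hle : Subgroup.center G ≤ Subgroup.zpowers x := by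
    intro z hz
    obtain ⟨r, hr⟩ := center_two_elt hO hz
    obtain ⟨Q, hQ⟩ := exists_sylow_mem' (g := z) hr
    obtain ⟨c, rfl⟩ := MulAction.exists_smul_eq G S Q
    rw [Sylow.coe_subgroup_smul] at hQ
    obtain ⟨t₀, ht₀, hte⟩ := hQ
    have hte' : c * t₀ * c⁻¹ = z := hte
    have hzS : z ∈ (S : Subgroup G) := by
      have h3 : t₀ = c⁻¹ * z * c := by
        rw [← hte']
        group
      have h4 : c⁻¹ * z * c = z := by
        rw [Subgroup.mem_center_iff.1 hz c⁻¹, mul_assoc, inv_mul_cancel, mul_one]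
      rw [← h4, ← h3]
      exact ht₀
    have hcomm : ∀ y, e ⟨z, hzS⟩ * y = y * e ⟨z, hzS⟩ := by
      intro y
      obtain ⟨w, rfl⟩ := e.surjective y
      rw [← map_mul, ← map_mul]
      congr 1
      apply Subtype.ext
      exact (Subgroup.mem_center_iff.1 hz (w : G)).symm
    rcases qi_central h2 hcomm with h3 | h3
    · have h4 : (⟨z, hzS⟩ : (S : Subgroup G)) = 1 := by
        apply e.injective
        rw [h3, map_one]
      have h5 : z = 1 := congrArg Subtype.val h4
      rw [h5]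
      exact Subgroup.one_mem _
    · have h4 : (⟨z, hzS⟩ : (S : Subgroup G)) = e.symm (a (m : ZMod (2 * m))) := by
        rw [← h3, MulEquiv.symm_apply_apply]
      have h5 : z = x := congrArg Subtype.val h4
      rw [h5]
      exact Subgroup.mem_zpowers x
  have heq : Subgroup.center G = Subgroup.zpowers x := by
    apply le_antisymm hle
    rw [Subgroup.zpowers_le]
    exact hxcen
  rw [heq, Nat.card_zpowers, hxord]

/-- The image of `x` is central modulo the odd core. -/
theorem qx_bar_central (g : G ⧸ pPrimeCore 2 G) :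
    ((qx S e : G) : G ⧸ pPrimeCore 2 G) * g = g * ((qx S e : G) : G ⧸ pPrimeCore 2 G) := by
  haveI hN : (pPrimeCore 2 G).Normal := CfsgLib.PLocal.pPrimeCore_normal'
  obtain ⟨g, rfl⟩ := QuotientGroup.mk_surjective g
  have h1 := qx_zstar S e g
  have h2 : QuotientGroup.mk' (pPrimeCore 2 G) (g * qx S e * g⁻¹ * (qx S e)⁻¹) = 1 :=
    (QuotientGroup.eq_one_iff _).2 h1
  rw [map_mul, map_mul, map_mul, map_inv, map_inv, mul_inv_eq_one, mul_inv_eq_iff_eq_mul] at h2
  exact h2.symm

include S e in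
/-- Sylow 2-subgroups of the subgroup generated by the involutions are cyclic. -/
theorem invol_sylow_cyclic (L : Subgroup G) (hL : L = Subgroup.closure {g : G | orderOf g = 2}) (Q : Sylow 2 L) : IsCyclic Q := by
  classical
  haveI hN : (pPrimeCore 2 G).Normal := CfsgLib.PLocal.pPrimeCore_normal'
  set π : G →* G ⧸ pPrimeCore 2 G := QuotientGroup.mk' _ with hπ
  set xh : G ⧸ pPrimeCore 2 G := π (qx S e) with hxh
  have hle : L ≤ (Subgroup.zpowers xh).comap π := by
    rw [hL, Subgroup.closure_le]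
    intro t ht
    have h1 := qx_coset S e ht
    have h2 : π t = xh := by
      have h3 : π (t * (qx S e)⁻¹) = 1 := (QuotientGroup.eq_one_iff _).2 h1
      rw [map_mul, map_inv, mul_inv_eq_one] at h3
      exact h3
    show π t ∈ Subgroup.zpowers xh
    rw [h2]
    exact Subgroup.mem_zpowers _
  let φ : (Q : Subgroup L) →* Subgroup.zpowers xh :=
    ((π.comp L.subtype).comp (Q : Subgroup L).subtype).codRestrict (Subgroup.zpowers xh) (fun t => hle (t : L).2)
  have hφ : Function.Injective φ := by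
    rw [injective_iff_map_eq_one]
    intro t ht
    have h1 : π (((t : L) : G)) = 1 := congrArg Subtype.val ht
    have h2 : (((t : L) : G)) ∈ pPrimeCore 2 G := (QuotientGroup.eq_one_iff _).1 h1
    obtain ⟨k, hk⟩ := (IsPGroup.iff_orderOf.1 Q.isPGroup') t
    have h3 : orderOf (((t : L) : G)) = 2 ^ k := by
      rw [Subgroup.orderOf_coe, Subgroup.orderOf_coe]
      exact hk
    have h4 := core_two_elt h3 h2
    apply Subtype.ext
    apply Subtype.ext
    exact h4
  exact isCyclic_of_injective φ hφ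

include S e in
/-- A normal subgroup of even order not containing the commutator subgroup. -/
theorem exists_normal_even (h3 : 3 ≤ m) :
    ∃ M : Subgroup G, M.Normal ∧ Even (Nat.card M) ∧ ¬ commutator G ≤ M := by
  classical
  haveI hN : (pPrimeCore 2 G).Normal := CfsgLib.PLocal.pPrimeCore_normal'
  set π : G →* G ⧸ pPrimeCore 2 G := QuotientGroup.mk' _ with hπ
  set x := qx S e with hx
  set xh : G ⧸ pPrimeCore 2 G := π x with hxh
  have hZn : (Subgroup.zpowers xh).Normal := zpowers_central_normal (qx_bar_central S e)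
  refine ⟨(Subgroup.zpowers xh).comap π, hZn.comap π, ?_, ?_⟩
  · have hxM : x ∈ (Subgroup.zpowers xh).comap π := Subgroup.mem_zpowers xh
    have h1 := orderOf_dvd_natCard (⟨x, hxM⟩ : (Subgroup.zpowers xh).comap π)
    rw [Subgroup.orderOf_mk, qx_order S e] at h1
    exact even_iff_two_dvd.2 h1
  · intro hcomm
    set αS : (S : Subgroup G) := e.symm (a 1) with hαS
    set bS : (S : Subgroup G) := e.symm (xa 0) with hbS
    set α : G := αS.1 with hα
    set b : G := bS.1 with hb
    have hαord : orderOf α = 2 * m := by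
      rw [hα, Subgroup.orderOf_coe, hαS, MulEquiv.orderOf_eq, QuaternionGroup.orderOf_a_one]
    have hbα : b * α = α⁻¹ * b := by
      have h1 : bS * αS = αS⁻¹ * bS := by
        rw [hαS, hbS, ← map_mul, ← map_inv, ← map_mul, qf_conj]
      exact congrArg Subtype.val h1
    have h1 : ⁅b, α⁆ ∈ commutator G := by
      rw [commutator_def]
      exact Subgroup.commutator_mem_commutator (Subgroup.mem_top _) (Subgroup.mem_top _)
    have h2 : ⁅b, α⁆ = α⁻¹ * α⁻¹ := by
      rw [commutatorElement_def, hbα]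
      group
    rw [h2] at h1
    have h4 := hcomm h1
    have h5 : π (α⁻¹ * α⁻¹) ∈ Subgroup.zpowers xh := h4
    have hsq : xh ^ 2 = 1 := by
      rw [hxh, ← map_pow, pow_two, sq_of_order (qx_order S e), map_one]
    obtain ⟨j, hj⟩ := Subgroup.mem_zpowers_iff.1 h5
    have h6 : π (α⁻¹ * α⁻¹) ^ 2 = 1 := by
      rw [← hj, ← zpow_natCast, ← zpow_mul, mul_comm, zpow_mul]
      have : xh ^ (((2 : ℕ)) : ℤ) = 1 := by
        rw [zpow_natCast, hsq]
      rw [this, one_zpow]
    rw [← map_pow] at h6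
    have h7 : (α⁻¹ * α⁻¹) ^ 2 ∈ pPrimeCore 2 G := (QuotientGroup.eq_one_iff _).1 h6
    have hpow2 : ∃ r : ℕ, orderOf ((α⁻¹ * α⁻¹) ^ 2) = 2 ^ r := by
      have h8 : IsPGroup 2 (S : Subgroup G) := S.isPGroup'
      have h9 : (α⁻¹ * α⁻¹) ^ 2 ∈ (S : Subgroup G) :=
        Subgroup.pow_mem _ (Subgroup.mul_mem _ (Subgroup.inv_mem _ αS.2) (Subgroup.inv_mem _ αS.2)) 2
      obtain ⟨r, hr⟩ := (IsPGroup.iff_orderOf.1 h8) ⟨_, h9⟩
      exact ⟨r, by rw [← hr, Subgroup.orderOf_mk]⟩
    obtain ⟨r, hr⟩ := hpow2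
    have h8 := core_two_elt hr h7
    have h9 : α ^ 4 = 1 := by
      have : ((α⁻¹ * α⁻¹) ^ 2)⁻¹ = α ^ 4 := by group
      rw [← this, h8, inv_one]
    have h10 := orderOf_dvd_of_pow_eq_one h9
    rw [hαord] at h10
    have := Nat.le_of_dvd (by norm_num) h10
    omega

/-- The commutator subgroup of a generalized quaternion Sylow subgroup. -/
theorem sylow_comm_eq : ⁅(S : Subgroup G), (S : Subgroup G)⁆ = Subgroup.zpowers (((e.symm (a 1) : (S : Subgroup G)) : G) ^ 2) := by
  classical
  set αS : (S : Subgroup G) := e.symm (a 1) with hαS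
  set bS : (S : Subgroup G) := e.symm (xa 0) with hbS
  apply le_antisymm
  · rw [Subgroup.commutator_le]
    intro p hp q hq
    obtain ⟨w, hw⟩ := qi_comm (e ⟨p, hp⟩) (e ⟨q, hq⟩)
    rw [← map_mul, ← map_inv, ← map_mul, ← map_inv, ← map_mul, qi_a_two] at hw
    have h1 : (⟨p, hp⟩ : (S : Subgroup G)) * ⟨q, hq⟩ * (⟨p, hp⟩ : (S : Subgroup G))⁻¹ * (⟨q, hq⟩ : (S : Subgroup G))⁻¹ =
        (αS ^ 2) ^ w.val := by
      apply e.injective
      rw [hw, map_pow, map_pow, hαS, MulEquiv.apply_symm_apply]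
    have h2 := congrArg Subtype.val h1
    rw [commutatorElement_def]
    have h3 : p * q * p⁻¹ * q⁻¹ = (((αS : G)) ^ 2) ^ w.val := h2
    rw [h3]
    exact Subgroup.pow_mem _ (Subgroup.mem_zpowers _) _
  · rw [Subgroup.zpowers_le]
    have hbα : (bS : G) * αS = (αS : G)⁻¹ * bS := by
      have h1 : bS * αS = αS⁻¹ * bS := by
        rw [hαS, hbS, ← map_mul, ← map_inv, ← map_mul, qf_conj]
      exact congrArg Subtype.val h1
    have h1 : ⁅(bS : G), (αS : G)⁆ ∈ ⁅(S : Subgroup G), (S : Subgroup G)⁆ :=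
      Subgroup.commutator_mem_commutator bS.2 αS.2
    have h2 : ⁅(bS : G), (αS : G)⁆ = ((αS : G) ^ 2)⁻¹ := by
      rw [commutatorElement_def, hbα]
      group
    rw [h2] at h1
    simpa using Subgroup.inv_mem _ h1

end QSylow

section Q16

open QuaternionGroup

variable {G : Type u} [Group G] [Fintype G] (S : Sylow 2 G) (n : ℕ)
  (e : (S : Subgroup G) ≃* QuaternionGroup (2 ^ (n + 2)))

include e in
/-- The two exceptional characters. -/
theorem exceptional_pair : ∃ χ₁ χ₂ : G → ℂ, IsIrrCharacter G χ₁ ∧ IsIrrCharacter G χ₂ ∧ χ₁ ≠ (fun _ => 1) ∧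
    χ₂ ≠ (fun _ => 1) ∧ χ₁ 1 = χ₂ 1 + 1 ∧ ∀ g : G, ¬ 4 ∣ orderOf g → χ₁ g - χ₂ g = 1 := by
  classical
  haveI : NeZero (2 ^ (n + 2)) := ⟨by positivity⟩
  obtain ⟨α, b, u, -, -, -, hu4, hbH, hbu, K₀, -, -, -, -, -, hN, -, -, μ, h2, h3, hbinv⟩ :=
    q16_bundle (qx_order S e) (qx_isolated S e) S (qx_mem S e) (n + 2) (by omega) _ rfl e
  letI : Fintype (Subgroup.centralizer (Singleton.singleton u : Set G)) := Fintype.ofFinite _
  obtain ⟨F, hFg, hFF, hF1, h4⟩ := q16_abstract_F hu4 μ h2 h3 hbH hbu hbinv hN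
  have hone := one_isGen (G := G)
  have hF10 : F 1 = 0 := h4 1 (by simp)
  have h1' : classInner (fun _ => (1 : ℂ)) F = 1 := by
    rw [← conj_classInner, hF1, map_one]
  set τ : G → ℂ := (fun _ => (1 : ℂ)) - F with hτ
  have hτg : IsGeneralizedCharacter G τ := hone.sub hFg
  have hτ2 : classInner τ τ = 2 := by
    rw [hτ, classInner_sub_left, classInner_sub_right, classInner_sub_right, hFF, hF1, h1', classInner_one_self]
    norm_num
  have hτ1 : τ 1 = 1 := by simp [hτ, hF10]
  have hτ0 : classInner τ (fun _ => (1 : ℂ)) = 0 := by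
    rw [hτ, classInner_sub_left, hF1, classInner_one_self]
    norm_num
  obtain ⟨P, N, hPN, hP1, hN1, hτe⟩ := exists_pm hτg hτ2 hτ1 hτ0
  refine ⟨P, N, P.2, N.2, ?_, ?_, ?_, ?_⟩
  · intro h
    exact hP1 (Subtype.ext h)
  · intro h
    exact hN1 (Subtype.ext h)
  · have h5 := congrFun hτe 1
    rw [hτ1] at h5
    simp only [Pi.sub_apply] at h5
    linear_combination -h5
  · intro g hg
    have h5 := congrFun hτe g
    simp only [hτ, Pi.sub_apply, h4 g hg] at h5
    linear_combination -h5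

end Q16

section Q16Struct

open QuaternionGroup

variable {G : Type u} [Group G] [Finite G] (S : Sylow 2 G) (n : ℕ)
  (e : (S : Subgroup G) ≃* QuaternionGroup (2 ^ (n + 2)))

theorem conj_mem_centralizer {u l h : G} (hl : l ∈ Subgroup.normalizer ((Subgroup.zpowers u : Subgroup G) : Set G))
    (hh : h ∈ Subgroup.centralizer ({u} : Set G)) : l * h * l⁻¹ ∈ Subgroup.centralizer ({u} : Set G) := by
  rw [Subgroup.mem_centralizer_singleton_iff] at hh ⊢
  have h1 : l⁻¹ * u * l⁻¹⁻¹ ∈ Subgroup.zpowers u :=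
    (Subgroup.mem_normalizer_iff.1 (Subgroup.inv_mem _ hl) u).1 (Subgroup.mem_zpowers u)
  rw [inv_inv] at h1
  obtain ⟨k, hk⟩ := Subgroup.mem_zpowers_iff.1 h1
  have h2 : h * (l⁻¹ * u * l) = (l⁻¹ * u * l) * h := by
    rw [← hk]
    exact ((show Commute h u from hh).zpow_right k).eq
  calc l * h * l⁻¹ * u = l * (h * (l⁻¹ * u * l)) * l⁻¹ := by group
    _ = l * ((l⁻¹ * u * l) * h) * l⁻¹ := by rw [h2]
    _ = u * (l * h * l⁻¹) := by group

/-- A general criterion for membership in a normalizer in a finite group. -/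
theorem mem_normalizer_of_forall (K : Subgroup G) {l : G} (h : ∀ k ∈ K, l * k * l⁻¹ ∈ K) :
    l ∈ Subgroup.normalizer (K : Set G) := by
  have hle : K.map (MulAut.conj l).toMonoidHom ≤ K := by
    rintro _ ⟨k, hk, rfl⟩
    exact h k hk
  have hcard : Nat.card K ≤ Nat.card (K.map (MulAut.conj l).toMonoidHom) := by
    rw [Nat.card_congr (Subgroup.equivMapOfInjective K _ (MulAut.conj l).injective).symm.toEquiv]
  have heq := Subgroup.eq_of_le_of_card_ge hle hcard
  rw [Subgroup.mem_normalizer_iff]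
  intro t
  constructor
  · intro ht
    exact h t ht
  · intro ht
    rw [← heq] at ht
    obtain ⟨n', hn', hne⟩ := ht
    have h1 : l * n' * l⁻¹ = l * t * l⁻¹ := hne
    have h2 : n' = t := mul_left_cancel (mul_right_cancel h1)
    rwa [← h2]

theorem two_card_of_le {T A B : Subgroup G} (hA : A ≤ T) (hB : B ≤ T)
    (hc : (Nat.card A).Coprime (Nat.card B)) : Nat.card A * Nat.card B ∣ Nat.card T := by
  apply Nat.Coprime.mul_dvd_of_dvd_of_dvd hc
  · exact Subgroup.card_dvd_of_le hA
  · exact Subgroup.card_dvd_of_le hB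

include e in
/-- The structure of the normalizer of `S'`. -/
theorem s0842_main (D : Subgroup G) (hD : D = ⁅(S : Subgroup G), (S : Subgroup G)⁆) :
    ∃ K : Subgroup G, Odd (Nat.card K) ∧ K ≤ Subgroup.centralizer (D : Set G) ∧
      Subgroup.normalizer (D : Set G) ≤ Subgroup.normalizer (K : Set G) ∧ K ⊔ (S : Subgroup G) = Subgroup.normalizer (D : Set G) ∧
      K ⊔ ((S : Subgroup G) ⊓ Subgroup.centralizer (D : Set G)) = Subgroup.centralizer (D : Set G) ∧
      ((Subgroup.centralizer (D : Set G)).subgroupOf (Subgroup.normalizer (D : Set G))).index = 2 := by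
  classical
  letI : Fintype G := Fintype.ofFinite G
  haveI : Fact (Nat.Prime 2) := ⟨Nat.prime_two⟩
  haveI : NeZero (2 ^ (n + 2)) := ⟨by positivity⟩
  set m := 2 ^ (n + 2) with hm
  obtain ⟨α, b, u, hα, hb, hu, hu4, hbH, hbu, K₀, hK₀n, hK₀odd, hK₀i, hKodd, hr2, hN, h2elt, hSL, -⟩ :=
    q16_bundle (qx_order S e) (qx_isolated S e) S (qx_mem S e) (n + 2) (by omega) m hm e
  have hDu : D = Subgroup.zpowers u := by
    rw [hD, sylow_comm_eq S e, ← hα, ← hu]
  have hCD : Subgroup.centralizer ((Subgroup.zpowers u : Subgroup G) : Set G) = Subgroup.centralizer ({u} : Set G) :=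
    centralizer_zpowers_eq u
  rw [hDu, hCD]
  change ((Subgroup.centralizer ({u} : Set G)).subgroupOf (Subgroup.normalizer ((Subgroup.zpowers u : Subgroup G) : Set G))).index = 2 at hr2
  set L := Subgroup.normalizer ((Subgroup.zpowers u : Subgroup G) : Set G) with hL
  have hHL : (Subgroup.centralizer ({u} : Set G)) ≤ L := by
    intro h hh
    apply mem_normalizer_of_conj_mem
    rw [Subgroup.mem_centralizer_singleton_iff.1 hh, mul_inv_cancel_right]
    exact Subgroup.mem_zpowers u
  set K : Subgroup G := K₀.map (Subgroup.centralizer ({u} : Set G)).subtype with hK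
  have hKcard : Nat.card K = Nat.card K₀ := Subgroup.card_map_of_injective (Subgroup.centralizer ({u} : Set G)).subtype_injective
  have hKH : K ≤ (Subgroup.centralizer ({u} : Set G)) := Subgroup.map_subtype_le K₀
  have hαS : α ∈ (S : Subgroup G) := by
    rw [hα]
    exact (e.symm (a 1)).2
  have hαord : orderOf α = 2 * m := by
    rw [hα, Subgroup.orderOf_coe, MulEquiv.orderOf_eq, QuaternionGroup.orderOf_a_one]
  have hαH : α ∈ (Subgroup.centralizer ({u} : Set G)) := by
    rw [Subgroup.mem_centralizer_singleton_iff, hu, pow_two]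
    group
  have hSodd : (Nat.card K₀).Coprime 2 := ((Nat.Prime.coprime_iff_not_dvd Nat.prime_two).2 hK₀odd).symm
  have hmpow : 2 * m = 2 ^ (n + 3) := by
    rw [hm]
    ring
  have hcardH : Nat.card (Subgroup.centralizer ({u} : Set G)) = Nat.card K₀ * (2 * m) := by
    rw [← hK₀i]
    exact (Subgroup.card_mul_index K₀).symm
  have hcardL : Nat.card L = Nat.card (Subgroup.centralizer ({u} : Set G)) * 2 := by
    have h1 := Subgroup.card_mul_index ((Subgroup.centralizer ({u} : Set G)).subgroupOf L)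
    rw [Nat.card_congr (Subgroup.subgroupOfEquivOfLe hHL).toEquiv, hr2] at h1
    exact h1.symm
  have hcardS : Nat.card (S : Subgroup G) = 4 * m := by
    rw [Nat.card_congr e.toEquiv, Nat.card_eq_fintype_card, QuaternionGroup.card]
  refine ⟨K, ?_, hKH, ?_, ?_, ?_, hr2⟩
  · rw [hKcard]
    exact odd_of_not_two hK₀odd
  · intro l hl
    apply mem_normalizer_of_forall
    rintro _ ⟨k, hk, rfl⟩
    have h1 : l * (k : G) * l⁻¹ ∈ (Subgroup.centralizer ({u} : Set G)) := conj_mem_centralizer hl k.2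
    have h2 : (⟨_, h1⟩ : (Subgroup.centralizer ({u} : Set G))) ∈ K₀ := by
      apply hKodd
      rw [Subgroup.orderOf_mk, CfsgLib.Block.orderOf_conj', Subgroup.orderOf_coe]
      intro h3
      apply hK₀odd
      refine dvd_trans h3 ?_
      have := orderOf_dvd_natCard (⟨k, hk⟩ : K₀)
      rwa [Subgroup.orderOf_mk] at this
    exact ⟨_, h2, rfl⟩
  · apply Subgroup.eq_of_le_of_card_ge
    · exact sup_le (hKH.trans hHL) hSL
    · have h1 := two_card_of_le (T := K ⊔ (S : Subgroup G)) (A := K) (B := (S : Subgroup G)) le_sup_left le_sup_right (by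
        rw [hKcard, hcardS, show 4 * m = 2 ^ (n + 4) by rw [hm]; ring]
        exact Nat.Coprime.pow_right _ hSodd)
      have h2 := Nat.le_of_dvd Nat.card_pos h1
      rw [hKcard, hcardS] at h2
      rw [hcardL, hcardH]
      calc Nat.card K₀ * (2 * m) * 2 = Nat.card K₀ * (4 * m) := by ring
        _ ≤ _ := h2
  · apply Subgroup.eq_of_le_of_card_ge
    · exact sup_le hKH inf_le_right
    · have hz : Subgroup.zpowers α ≤ K ⊔ ((S : Subgroup G) ⊓ (Subgroup.centralizer ({u} : Set G))) := by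
        rw [Subgroup.zpowers_le]
        exact (le_sup_right : (S : Subgroup G) ⊓ (Subgroup.centralizer ({u} : Set G)) ≤ _) ⟨hαS, hαH⟩
      have h1 := two_card_of_le (T := K ⊔ ((S : Subgroup G) ⊓ (Subgroup.centralizer ({u} : Set G)))) (A := K) (B := Subgroup.zpowers α) le_sup_left hz (by
        rw [hKcard, Nat.card_zpowers, hαord, hmpow]
        exact Nat.Coprime.pow_right _ hSodd)
      have h2 := Nat.le_of_dvd Nat.card_pos h1
      rw [hKcard, Nat.card_zpowers, hαord] at h2
      rw [hcardH]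
      exact h2

include e in
/-- The elements of the centralizer of `S'` of large order. -/
theorem s0843_main (D : Subgroup G) (hD : D = ⁅(S : Subgroup G), (S : Subgroup G)⁆) :
    (∀ y : G, y ∈ Subgroup.centralizer (D : Set G) → Nat.card D ∣ orderOf y → D ≤ Subgroup.zpowers y) ∧
    (∀ g y : G, y ∈ Subgroup.centralizer (D : Set G) → Nat.card D ∣ orderOf y → g * y * g⁻¹ ∈ Subgroup.centralizer (D : Set G) → g ∈ Subgroup.normalizer (D : Set G)) ∧
    (∀ g y : G, g ∈ Subgroup.normalizer (D : Set G) → y ∈ Subgroup.centralizer (D : Set G) → Nat.card D ∣ orderOf y → g * y * g⁻¹ ∈ Subgroup.centralizer (D : Set G) ∧ Nat.card D ∣ orderOf (g * y * g⁻¹)) := by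
  classical
  letI : Fintype G := Fintype.ofFinite G
  haveI : Fact (Nat.Prime 2) := ⟨Nat.prime_two⟩
  haveI : NeZero (2 ^ (n + 2)) := ⟨by positivity⟩
  set m := 2 ^ (n + 2) with hm
  obtain ⟨α, b, u, hα, hb, hu, hu4, hbH, hbu, K₀, hK₀n, hK₀odd, hK₀i, hKodd, hr2, hN, h2elt, hSL, -⟩ :=
    q16_bundle (qx_order S e) (qx_isolated S e) S (qx_mem S e) (n + 2) (by omega) m hm e
  have hDu : D = Subgroup.zpowers u := by
    rw [hD, sylow_comm_eq S e, ← hα, ← hu]
  have hCD : Subgroup.centralizer ((Subgroup.zpowers u : Subgroup G) : Set G) = Subgroup.centralizer ({u} : Set G) :=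
    centralizer_zpowers_eq u
  have hαord : orderOf α = 2 * m := by
    rw [hα, Subgroup.orderOf_coe, MulEquiv.orderOf_eq, QuaternionGroup.orderOf_a_one]
  have huord : orderOf u = m := by
    rw [hu, orderOf_pow' _ (by norm_num), hαord, Nat.gcd_eq_right (Dvd.intro m rfl)]
    omega
  rw [hDu, hCD, Nat.card_zpowers, huord]
  set H := Subgroup.centralizer ({u} : Set G) with hH
  have huα : u ∈ Subgroup.zpowers α := by
    rw [hu]
    exact Subgroup.pow_mem _ (Subgroup.mem_zpowers α) 2
  -- the key property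
  have key : ∀ y : G, y ∈ H → m ∣ orderOf y → u ∈ Subgroup.zpowers y := by
    intro y hy hmy
    obtain ⟨s, c, hc, ho⟩ := Nat.exists_eq_pow_mul_and_not_dvd (orderOf_pos y).ne' 2 (by norm_num)
    have hcpos : 0 < c := by
      rcases Nat.eq_zero_or_pos c with h0 | h0
      · rw [h0] at hc
        exact absurd (dvd_zero 2) hc
      · exact h0
    have hyc : orderOf (y ^ c) = 2 ^ s := by
      rw [orderOf_pow_of_dvd hcpos.ne' (by rw [ho]; exact dvd_mul_left _ _), ho]
      exact Nat.mul_div_cancel _ hcpos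
    have hks : n + 2 ≤ s := by
      rw [ho, hm] at hmy
      have h1 : Nat.Coprime (2 ^ (n + 2)) c :=
        Nat.Coprime.pow_left _ ((Nat.Prime.coprime_iff_not_dvd Nat.prime_two).2 hc)
      have h2 : 2 ^ (n + 2) ∣ 2 ^ s := h1.dvd_of_dvd_mul_right hmy
      exact (Nat.pow_dvd_pow_iff_le_right (by norm_num)).1 h2
    obtain ⟨d, j, hd, hdj⟩ := h2elt (y ^ c) s (H.pow_mem hy c) hyc
    set w : G := (y ^ c) ^ (2 ^ (s - (n + 2))) with hw
    have hword : orderOf w = m := by
      rw [hw, orderOf_pow_of_dvd (by positivity) (by rw [hyc]; exact pow_dvd_pow 2 (by omega)), hyc, hm]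
      have h1 : 2 ^ s = 2 ^ (s - (n + 2)) * 2 ^ (n + 2) := by
        rw [← pow_add]
        congr 1
        omega
      rw [h1]
      exact Nat.mul_div_cancel_left _ (by positivity)
    have hw1 : d⁻¹ * w * d ∈ Subgroup.zpowers α := by
      have h1 : w = d * (α ^ j) ^ (2 ^ (s - (n + 2))) * d⁻¹ := by
        rw [hw, hdj, conj_pow]
      have h2 : d⁻¹ * w * d = (α ^ j) ^ (2 ^ (s - (n + 2))) := by
        rw [h1]
        group
      rw [h2]
      exact Subgroup.pow_mem _ (Subgroup.pow_mem _ (Subgroup.mem_zpowers α) j) _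
    have hord' : orderOf (d⁻¹ * w * d) = orderOf u := by
      rw [huord, ← hword]
      have : d⁻¹ * w * d = d⁻¹ * w * (d⁻¹)⁻¹ := by rw [inv_inv]
      rw [this, CfsgLib.Block.orderOf_conj']
    have h5 := mem_zpowers_of_same_order hw1 huα hord'
    obtain ⟨l, hl⟩ := Subgroup.mem_zpowers_iff.1 h5
    have h6 : w ^ l = u := by
      have h7 : (d⁻¹ * w * d) ^ l = d⁻¹ * w ^ l * d := by
        have : d⁻¹ * w * d = d⁻¹ * w * (d⁻¹)⁻¹ := by rw [inv_inv]
        rw [this, conj_zpow, inv_inv]
      rw [h7] at hl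
      have hdu : d * u = u * d := Subgroup.mem_centralizer_singleton_iff.1 hd
      calc w ^ l = d * (d⁻¹ * w ^ l * d) * d⁻¹ := by group
        _ = d * u * d⁻¹ := by rw [hl]
        _ = u := by rw [hdu, mul_inv_cancel_right]
    rw [← h6, hw]
    exact Subgroup.zpow_mem _ (Subgroup.pow_mem _ (Subgroup.pow_mem _ (Subgroup.mem_zpowers y) c) _) l
  refine ⟨?_, ?_, ?_⟩
  · intro y hy hmy
    rw [Subgroup.zpowers_le]
    exact key y hy hmy
  · intro g y hy hmy hgy
    apply mem_normalizer_of_conj_mem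
    have h1 : m ∣ orderOf (g * y * g⁻¹) := by
      rw [CfsgLib.Block.orderOf_conj']
      exact hmy
    have h2 := key _ hgy h1
    have h3 : g * u * g⁻¹ ∈ Subgroup.zpowers (g * y * g⁻¹) := by
      obtain ⟨l, hl⟩ := Subgroup.mem_zpowers_iff.1 (key y hy hmy)
      refine Subgroup.mem_zpowers_iff.2 ⟨l, ?_⟩
      rw [conj_zpow, hl]
    have h4 : orderOf u = orderOf (g * u * g⁻¹) := by
      rw [CfsgLib.Block.orderOf_conj']
    exact mem_zpowers_of_same_order h2 h3 h4
  · intro g y hg hy hmy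
    refine ⟨conj_mem_centralizer hg hy, ?_⟩
    rw [CfsgLib.Block.orderOf_conj']
    exact hmy

end Q16Struct

end CfsgLib.ZS
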