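import Cfsg.Agent.Lib.ZStar.Inv
import Cfsg.Agent.Lib.Solv.Nilp
import Cfsg.Agent.Lib.PLocal.Core

/-! # Strongly closed subgroups and the Z*-theorem -/

set_option autoImplicit false
set_option linter.unusedSectionVars false
set_option linter.unusedVariables false

namespace CfsgLib.ZS

open Cfsg
open scoped Pointwise

universe u

/-- A strongly closed `2`-subgroup acting on a normal subgroup without normal subgroups of odd order,
and meeting it trivially, centralizes it (abstract form). -/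
theorem sclosed_core {L : Type u} [Group L] [Finite L] (S : Sylow 2 L) (A H : Subgroup L) [hH : H.Normal]
    (hAS : A ≤ S) (hcl : ∀ a ∈ A, ∀ g : L, g * a * g⁻¹ ∈ (S : Subgroup L) → g * a * g⁻¹ ∈ A)
    (hgen : H ⊔ A = ⊤) (hdisj : A ⊓ H = ⊥)
    (hO : ∀ N : Subgroup L, N ≤ H → H ≤ Subgroup.normalizer (N : Set L) → (Nat.card N).Coprime 2 → N = ⊥) :
    A ≤ Subgroup.centralizer (H : Set L) := by
  classical
  by_contra hne
  have hdisj' : ∀ x, x ∈ A → x ∈ H → x = 1 := by
    intro x h1 h2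
    have : x ∈ A ⊓ H := ⟨h1, h2⟩
    rw [hdisj] at this
    exact this
  set B : Subgroup L := A ⊓ Subgroup.centralizer (H : Set L) with hB
  have hdecomp : ∀ g : L, ∃ h ∈ H, ∃ a₁ ∈ A, g = h * a₁ := by
    intro g
    have : g ∈ ((H ⊔ A : Subgroup L) : Set L) := by rw [hgen]; trivial
    rw [Subgroup.normal_mul] at this
    obtain ⟨h, hh, a, ha, rfl⟩ := Set.mem_mul.1 this
    exact ⟨h, hh, a, ha, rfl⟩
  have hBn : B.Normal := by
    refine ⟨fun b hb g => ?_⟩
    obtain ⟨h, hh, a₁, ha₁, rfl⟩ := hdecomp g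
    have hb1 := (Subgroup.mem_inf.1 hb).1
    have hb2 := Subgroup.mem_centralizer_iff.1 (Subgroup.mem_inf.1 hb).2
    set b' : L := a₁ * b * a₁⁻¹ with hb'
    have hb'A : b' ∈ A := A.mul_mem (A.mul_mem ha₁ hb1) (A.inv_mem ha₁)
    have hb'c : ∀ k ∈ H, k * b' = b' * k := by
      intro k hk
      have h1 : a₁⁻¹ * k * a₁ ∈ H := by
        have := hH.conj_mem k hk a₁⁻¹
        simpa using this
      have h2 := hb2 _ h1
      have e1 : k * b' = a₁ * ((a₁⁻¹ * k * a₁) * b) * a₁⁻¹ := by rw [hb']; group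
      have e2 : b' * k = a₁ * (b * (a₁⁻¹ * k * a₁)) * a₁⁻¹ := by rw [hb']; group
      rw [e1, e2, h2]
    have e3 : (h * a₁) * b * (h * a₁)⁻¹ = b' := by
      have e4 : (h * a₁) * b * (h * a₁)⁻¹ = h * b' * h⁻¹ := by rw [hb']; group
      rw [e4, hb'c h hh]
      group
    rw [e3]
    exact ⟨hb'A, Subgroup.mem_centralizer_iff.2 hb'c⟩
  let Q := L ⧸ B
  let π : L →* Q := QuotientGroup.mk' B
  have hπs : Function.Surjective π := QuotientGroup.mk'_surjective B
  have hπker : ∀ l : L, π l = 1 ↔ l ∈ B := by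
    intro l
    exact QuotientGroup.eq_one_iff l
  have hBS : B ≤ (S : Subgroup L) := inf_le_left.trans hAS
  let T : Sylow 2 Q := S.mapSurjective hπs
  have hTc : ((T : Subgroup Q)) = (S : Subgroup L).map π := Sylow.coe_mapSurjective hπs S
  have hTmem : ∀ l : L, π l ∈ (T : Subgroup Q) ↔ l ∈ (S : Subgroup L) := by
    intro l
    rw [hTc]
    constructor
    · rintro ⟨s, hs, hsl⟩
      have h1 : π (s⁻¹ * l) = 1 := by
        rw [map_mul, map_inv, ← hsl]; group
      have h2 := hBS ((hπker _).1 h1)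
      have h3 : l = s * (s⁻¹ * l) := by group
      rw [h3]
      exact Subgroup.mul_mem _ hs h2
    · intro h
      exact ⟨l, h, rfl⟩
  -- the image of `A` in `T`
  set Abar : Subgroup T := (A.map π).subgroupOf (T : Subgroup Q) with hAbar
  haveI hAbarN : Abar.Normal := by
    refine ⟨fun n hn g => ?_⟩
    rw [hAbar, Subgroup.mem_subgroupOf] at hn ⊢
    obtain ⟨a, ha, hna⟩ := hn
    obtain ⟨s, hs, hsg⟩ : (g : Q) ∈ (S : Subgroup L).map π := hTc ▸ g.2
    refine ⟨s * a * s⁻¹, hcl a ha s ?_, ?_⟩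
    · exact Subgroup.mul_mem _ (Subgroup.mul_mem _ hs (hAS ha)) (Subgroup.inv_mem _ hs)
    · simp only [map_mul, map_inv, hna, hsg]
      rfl
  have hAbarne : Abar ≠ ⊥ := by
    intro h
    apply hne
    intro a ha
    have h1 : π a ∈ (T : Subgroup Q) := (hTmem a).2 (hAS ha)
    have h2 : (⟨π a, h1⟩ : T) ∈ Abar := by
      rw [hAbar, Subgroup.mem_subgroupOf]
      exact ⟨a, ha, rfl⟩
    rw [h, Subgroup.mem_bot] at h2
    have h3 : π a = 1 := congrArg Subtype.val h2
    exact (Subgroup.mem_inf.1 ((hπker a).1 h3)).2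
  haveI hTnil : Group.IsNilpotent T := T.2.isNilpotent
  have hW := CfsgLib.Solv.normal_inf_center_ne_bot Abar hAbarne
  set W : Subgroup T := Abar ⊓ Subgroup.center T with hWdef
  have hWp : IsPGroup 2 W := (T.2.to_subgroup W)
  have hWcard : 2 ∣ Nat.card W := by
    rcases hWp.card_eq_or_dvd with h | h
    · exact absurd (Subgroup.card_eq_one.1 h) hW
    · exact h
  obtain ⟨y, hy⟩ := exists_prime_orderOf_dvd_card' 2 hWcard
  set x : Q := ((y : T) : Q) with hxdef
  have hxord : orderOf x = 2 := by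
    rw [hxdef, Subgroup.orderOf_coe, Subgroup.orderOf_coe, hy]
  have hxT : x ∈ (T : Subgroup Q) := (y : T).2
  have hyA : (y : T) ∈ Abar := (Subgroup.mem_inf.1 y.2).1
  have hyZ : (y : T) ∈ Subgroup.center T := (Subgroup.mem_inf.1 y.2).2
  have hxc : ∀ t ∈ (T : Subgroup Q), t * x = x * t := by
    intro t ht
    have h1 := Subgroup.mem_center_iff.1 hyZ ⟨t, ht⟩
    exact congrArg Subtype.val h1
  obtain ⟨a, haA, hax⟩ : x ∈ A.map π := by
    rw [hAbar, Subgroup.mem_subgroupOf] at hyA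
    exact hyA
  -- `x` is isolated
  have hiso : IsIsolated x := by
    apply isolated_of_sylow_form (P := T) hxord
    intro q hq
    obtain ⟨l, rfl⟩ := hπs q
    have h1 : π (l * a * l⁻¹) ∈ (T : Subgroup Q) := by
      simpa only [map_mul, map_inv, hax] using hq
    have h2 : l * a * l⁻¹ ∈ (S : Subgroup L) := (hTmem _).1 h1
    have h3 := hcl a haA l h2
    obtain ⟨h, hh, a₁, ha₁, rfl⟩ := hdecomp l
    set a₂ : L := a₁ * a * a₁⁻¹ with ha₂
    have ha₂A : a₂ ∈ A := A.mul_mem (A.mul_mem ha₁ haA) (A.inv_mem ha₁)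
    have e1 : (h * a₁) * a * (h * a₁)⁻¹ = h * a₂ * h⁻¹ := by rw [ha₂]; group
    rw [e1] at h3
    have hc1 : h * a₂ * h⁻¹ * a₂⁻¹ ∈ A := A.mul_mem h3 (A.inv_mem ha₂A)
    have hc2 : h * a₂ * h⁻¹ * a₂⁻¹ ∈ H := by
      have e2 : h * a₂ * h⁻¹ * a₂⁻¹ = h * (a₂ * h⁻¹ * a₂⁻¹) := by group
      rw [e2]
      exact H.mul_mem hh (hH.conj_mem _ (H.inv_mem hh) _)
    have hc := hdisj' _ hc1 hc2
    have hc3 : h * a₂ * h⁻¹ = a₂ := by
      rw [← mul_right_inj a₂⁻¹]
      rw [mul_inv_eq_one] at hc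
      rw [hc]
    have e5 : π (h * a₁) * x * (π (h * a₁))⁻¹ = π ((h * a₁) * a * (h * a₁)⁻¹) := by
      simp only [map_mul, map_inv, hax]
    rw [e5, e1, hc3, ha₂]
    simp only [map_mul, map_inv, hax]
    have h5 : π a₁ ∈ (T : Subgroup Q) := (hTmem _).2 (hAS ha₁)
    rw [hxc _ h5]
    group
  have hz := fun q => zstar' hxord hiso q
  haveI hOn : (pPrimeCore 2 Q).Normal := CfsgLib.PLocal.pPrimeCore_normal' (p := 2) (G := Q)
  set N' : Subgroup L := H ⊓ (pPrimeCore 2 Q).comap π with hN'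
  have hN'n : N'.Normal := Subgroup.normal_inf_normal _ _
  have hN'c : (Nat.card N').Coprime 2 := by
    have hmem : ∀ n : N', π (n : L) ∈ pPrimeCore 2 Q := fun n => (Subgroup.mem_inf.1 n.2).2
    let f : N' →* pPrimeCore 2 Q := (π.comp N'.subtype).codRestrict _ hmem
    have hf : Function.Injective f := by
      intro u v huv
      have h1 : π (u : L) = π (v : L) := congrArg Subtype.val huv
      have h2 : π ((u : L)⁻¹ * v) = 1 := by
        rw [map_mul, map_inv, h1]; group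
      have h3 := (hπker _).1 h2
      have h4 : (u : L)⁻¹ * v ∈ H := H.mul_mem (H.inv_mem (Subgroup.mem_inf.1 u.2).1) (Subgroup.mem_inf.1 v.2).1
      have h5 := hdisj' _ (Subgroup.mem_inf.1 h3).1 h4
      apply Subtype.ext
      rw [inv_mul_eq_one] at h5
      exact h5
    exact Nat.Coprime.coprime_dvd_left (Subgroup.card_dvd_of_injective f hf) (CfsgLib.Solv.pPrimeCore_coprime 2)
  have hN'bot := hO N' inf_le_left (by rw [Subgroup.normalizer_eq_top_iff.2 hN'n]; exact le_top) hN'c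
  -- `a` centralizes `H`
  have haB : a ∈ B := by
    refine ⟨haA, Subgroup.mem_centralizer_iff.2 ?_⟩
    intro k hk
    have h1 : a * k * a⁻¹ * k⁻¹ ∈ N' := by
      refine ⟨H.mul_mem (hH.conj_mem _ hk _) (H.inv_mem hk), ?_⟩
      change π (a * k * a⁻¹ * k⁻¹) ∈ pPrimeCore 2 Q
      simp only [map_mul, map_inv, hax]
      exact hz _
    rw [hN'bot, Subgroup.mem_bot] at h1
    have h2 : a * k * a⁻¹ = k := by
      rw [mul_inv_eq_one] at h1
      exact h1
    rw [mul_inv_eq_iff_eq_mul] at h2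
    exact h2.symm
  have hx1 : x = 1 := by
    rw [← hax]
    exact (hπker _).2 haB
  rw [hx1, orderOf_one] at hxord
  exact absurd hxord (by norm_num)

/-- A strongly closed `2`-subgroup normalizing `H`, with `O(H) = 1` and trivial intersection, centralizes `H`. -/
theorem sclosed_centralizes {G : Type u} [Group G] [Finite G] (S : Sylow 2 G) (A : Subgroup G)
    (hA : IsStronglyClosed A (S : Subgroup G)) (H : Subgroup G)
    (hAH : A ≤ Subgroup.normalizer (H : Set G)) (hO : pPrimeCore 2 H = ⊥) (hdisj : A ⊓ H = ⊥) :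
    A ≤ Subgroup.centralizer (H : Set G) := by
  classical
  set L : Subgroup G := H ⊔ A with hL
  have hHL : H ≤ L := le_sup_left
  have hAL : A ≤ L := le_sup_right
  have hLn : L ≤ Subgroup.normalizer (H : Set G) := sup_le Subgroup.le_normalizer hAH
  haveI hHn : (H.subgroupOf L).Normal := (Subgroup.normal_subgroupOf_iff_le_normalizer hHL).2 hLn
  have hA2 : IsPGroup 2 (A.subgroupOf L) :=
    ((S.2.to_le hA.1).of_equiv (Subgroup.subgroupOfEquivOfLe hAL).symm)
  obtain ⟨S₁, hS₁⟩ := hA2.exists_le_sylow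
  have h2 : IsPGroup 2 ((S₁ : Subgroup L).map L.subtype) := S₁.2.map _
  obtain ⟨T, hT⟩ := h2.exists_le_sylow
  obtain ⟨g, hg⟩ := MulAction.exists_smul_eq G T S
  have hgS : ∀ t ∈ (T : Subgroup G), g * t * g⁻¹ ∈ (S : Subgroup G) := by
    intro t ht
    rw [← hg, Sylow.coe_subgroup_smul]
    exact ⟨t, ht, rfl⟩
  have hAT : ∀ a ∈ A, a ∈ (T : Subgroup G) := by
    intro a ha
    apply hT
    refine ⟨⟨a, hAL ha⟩, hS₁ (Subgroup.mem_subgroupOf.2 ha), rfl⟩
  have hconj : ∀ a ∈ A, g * a * g⁻¹ ∈ A := fun a ha => hA.2 a ha g (hgS a (hAT a ha))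
  have hgN : g ∈ Subgroup.normalizer (A : Set G) := mem_normalizer_of_forall A hconj
  have hconj' : ∀ a ∈ A, g⁻¹ * a * g ∈ A := by
    intro a ha
    have := (Subgroup.mem_normalizer_iff.1 (Subgroup.inv_mem _ hgN) a).1 ha
    simpa using this
  have hcore := sclosed_core S₁ (A.subgroupOf L) (H.subgroupOf L) hS₁ ?_ ?_ ?_ ?_
  · intro a ha
    rw [Subgroup.mem_centralizer_iff]
    intro h hh
    have h1 := Subgroup.mem_centralizer_iff.1 (hcore (Subgroup.mem_subgroupOf.2 (show ((⟨a, hAL ha⟩ : L) : G) ∈ A from ha)))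
      ⟨h, hHL hh⟩ (Subgroup.mem_subgroupOf.2 hh)
    exact congrArg Subtype.val h1
  · -- closure
    intro a ha l hl
    have ha' : (a : G) ∈ A := Subgroup.mem_subgroupOf.1 ha
    have h1 : ((l * a * l⁻¹ : L) : G) ∈ (T : Subgroup G) := hT ⟨_, hl, rfl⟩
    have h2 := hgS _ h1
    have h3 : g * ((l * a * l⁻¹ : L) : G) * g⁻¹ = (g * l) * a * (g * l)⁻¹ := by
      simp only [Subgroup.coe_mul, Subgroup.coe_inv]
      group
    rw [h3] at h2
    have h4 := hA.2 _ ha' _ h2
    have h5 := hconj' _ h4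
    rw [Subgroup.mem_subgroupOf]
    have h6 : g⁻¹ * ((g * l) * a * (g * l)⁻¹) * g = ((l * a * l⁻¹ : L) : G) := by
      simp only [Subgroup.coe_mul, Subgroup.coe_inv]
      group
    rw [h6] at h5
    exact h5
  · -- generation
    apply Subgroup.map_injective L.subtype_injective
    rw [Subgroup.map_sup, Subgroup.subgroupOf_map_subtype, Subgroup.subgroupOf_map_subtype,
      inf_eq_left.2 hHL, inf_eq_left.2 hAL, ← MonoidHom.range_eq_map, Subgroup.range_subtype]
  · -- trivial intersection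
    rw [eq_bot_iff]
    intro x hx
    have h1 : (x : G) ∈ A ⊓ H := ⟨Subgroup.mem_subgroupOf.1 hx.1, Subgroup.mem_subgroupOf.1 hx.2⟩
    rw [hdisj, Subgroup.mem_bot] at h1
    rw [Subgroup.mem_bot]
    exact Subtype.ext h1
  · -- odd core
    intro N hNH hNn hNc
    have hNH' : N.map L.subtype ≤ H := by
      rintro _ ⟨n, hn, rfl⟩
      exact Subgroup.mem_subgroupOf.1 (hNH hn)
    set N₁ : Subgroup H := (N.map L.subtype).subgroupOf H with hN₁
    have hN₁n : N₁.Normal := by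
      refine ⟨fun n hn h => ?_⟩
      rw [hN₁, Subgroup.mem_subgroupOf] at hn ⊢
      obtain ⟨m, hm, hmn⟩ := hn
      have hhL : (⟨h, hHL h.2⟩ : L) ∈ H.subgroupOf L := Subgroup.mem_subgroupOf.2 h.2
      have h1 := (Subgroup.mem_normalizer_iff.1 (hNn hhL) m).1 hm
      refine ⟨_, h1, ?_⟩
      simp only [Subgroup.coe_subtype, Subgroup.coe_mul, Subgroup.coe_inv] at hmn ⊢
      rw [hmn]
    have hN₁c : (Nat.card N₁).Coprime 2 := by
      have e1 : Nat.card N₁ = Nat.card (N.map L.subtype) :=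
        Nat.card_congr (Subgroup.subgroupOfEquivOfLe hNH').toEquiv
      have e2 : Nat.card (N.map L.subtype) = Nat.card N :=
        (Nat.card_congr (Subgroup.equivMapOfInjective N _ L.subtype_injective).toEquiv).symm
      rw [e1, e2]
      exact hNc
    have hle := CfsgLib.PLocal.le_pPrimeCore_of_normal N₁ hN₁n hN₁c
    rw [hO] at hle
    rw [eq_bot_iff]
    intro n hn
    have h1 : (⟨n, Subgroup.mem_subgroupOf.1 (hNH hn)⟩ : H) ∈ N₁ := by
      rw [hN₁, Subgroup.mem_subgroupOf]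
      exact ⟨n, hn, rfl⟩
    have h2 := hle h1
    rw [Subgroup.mem_bot] at h2 ⊢
    have h3 : ((n : L) : G) = 1 := congrArg Subtype.val h2
    exact Subtype.ext h3

end CfsgLib.ZS
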